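import Mathlib.GroupTheory.GroupAction.Quotient
import Mathlib.Data.Nat.GCD.Basic
import Mathlib.Tactic

/-!
# Counting lemmas for the proof that no-divisibility gives three degrees
-/

set_option autoImplicit false

namespace Cfsg.Lib.Char.NoDivide

/-- A group acting on a finite set, fixing one point and acting freely elsewhere. -/
theorem card_dvd_of_free {R A : Type*} [Group R] [Finite A] (o : A) (f : R → A → A)
    (hone : ∀ a, f 1 a = a) (hmul : ∀ x y a, f (x * y) a = f x (f y a)) (ho : ∀ x, f x o = o)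
    (hfree : ∀ x a, a ≠ o → f x a = a → x = 1) : Nat.card R ∣ Nat.card A - 1 := by
  classical
  have hne : ∀ x a, a ≠ o → f x a ≠ o := fun x a ha h => ha (by
    rw [← hone a, ← inv_mul_cancel x, hmul, h, ho])
  letI act : MulAction R {a : A // a ≠ o} :=
    { smul := fun x a => ⟨f x a.1, hne x a.1 a.2⟩
      one_smul := fun a => Subtype.ext (hone a.1)
      mul_smul := fun x y a => Subtype.ext (hmul x y a.1) }
  have hst : ∀ b : {a : A // a ≠ o}, MulAction.stabilizer R b = ⊥ := fun b =>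
    eq_bot_iff.2 fun x hx => Subgroup.mem_bot.2
      (hfree x b.1 b.2 (congrArg Subtype.val (MulAction.mem_stabilizer_iff.1 hx)))
  have e := Nat.card_congr (MulAction.selfEquivOrbitsQuotientProd hst)
  rw [Nat.card_prod] at e
  have h1 : Nat.card {a : A // a ≠ o} = Nat.card A - 1 := by
    haveI := Fintype.ofFinite A
    rw [Nat.card_eq_fintype_card, Nat.card_eq_fintype_card, Fintype.card_subtype_compl,
      Fintype.card_subtype_eq]
  rw [← h1, e]
  exact Dvd.intro_left _ rfl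

/-- The arithmetic contradiction. -/
theorem false_of_divides {r n k m b : ℕ} (hr : 1 < r) (hk : 0 < k) (hkn : k < n)
    (hm1 : m ∣ r ^ n - 1) (hm2 : m ∣ r ^ k - 1) (hb : b * b ≤ r ^ n)
    (h : r ^ n - 1 ≤ m * (b - 1)) : False := by
  have hg := Nat.dvd_gcd hm1 hm2
  rw [Nat.pow_sub_one_gcd_pow_sub_one] at hg
  set g := Nat.gcd n k with hgdef
  have hg0 : 0 < g := Nat.gcd_pos_of_pos_right _ hk
  have hgk : g ≤ k := Nat.le_of_dvd hk (Nat.gcd_dvd_right n k)
  obtain ⟨t, ht⟩ := Nat.gcd_dvd_left n k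
  rw [← hgdef] at ht
  have ht2 : 2 ≤ t := by
    by_contra hlt
    interval_cases t <;> omega
  have ha : r ^ g * r ^ g ≤ r ^ n := by
    rw [← pow_add]
    refine Nat.pow_le_pow_right (by omega) ?_
    rw [ht]
    nlinarith
  have ha2 : 2 ≤ r ^ g := le_trans hr (Nat.le_self_pow hg0.ne' r)
  have hmle : m ≤ r ^ g - 1 := Nat.le_of_dvd (by omega) hg
  have hX : r ^ g ≤ r ^ n := le_trans (Nat.le_mul_of_pos_left _ (by omega)) ha
  have hb2 : 2 ≤ b := by
    by_contra hlt
    have : b - 1 = 0 := by omega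
    rw [this, Nat.mul_zero] at h
    omega
  have h2 : m * (b - 1) ≤ (r ^ g - 1) * (b - 1) := Nat.mul_le_mul_right _ hmle
  obtain ⟨a', ha'⟩ : ∃ a', r ^ g = a' + 1 := ⟨r ^ g - 1, by omega⟩
  obtain ⟨b', hb'⟩ : ∃ b', b = b' + 1 := ⟨b - 1, by omega⟩
  rw [ha'] at ha h2
  rw [hb'] at hb h h2
  simp only [Nat.add_sub_cancel] at h h2
  have h3 : r ^ n ≤ a' * b' + 1 := by omega
  have h4 : 1 ≤ a' := by omega
  nlinarith [Nat.mul_le_mul ha'.ge (le_refl 1), sq_nonneg ((a' : ℤ) - b'), two_mul_le_add_sq a' b']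

end Cfsg.Lib.Char.NoDivide
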