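import Cfsg.Agent.Lib.Char.MinimalDegrees
import Cfsg.Agent.Lib.Char.Clifford2
import Cfsg.Agent.Lib.Char.ThreeDegrees
import Cfsg.Agent.Lib.Char.Ito
import Cfsg.Agent.Lib.Char.AbelianInertia

/-!
# A normal complement of prime power index and degrees without divisibility
-/

set_option autoImplicit false
set_option linter.unusedSectionVars false
set_option linter.style.haveILetI false

namespace Cfsg.Lib.Char.NoDivide

open Cfsg Cfsg.Lib.Char
open scoped commutatorElement

universe u

variable {N : Type u} [Group N] [Fintype N]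

/-- Either all nonlinear degrees agree or the quotient by the complement is abelian. -/
theorem degree_eq_or_commutator_le {q k : ℕ} (hq : q.Prime) (C : Subgroup N) [C.Normal]
    (hcop : (Nat.card C).Coprime q) (hidx : C.index = q ^ k)
    (hnd : ∀ ψ φ : IrrCharacter N, charDegree (ψ : N → ℂ) ≠ 1 → charDegree (φ : N → ℂ) ≠ 1 →
      charDegree (ψ : N → ℂ) ∣ charDegree (φ : N → ℂ) →
        charDegree (ψ : N → ℂ) = charDegree (φ : N → ℂ)) :
    (∀ ψ φ : IrrCharacter N, charDegree (ψ : N → ℂ) ≠ 1 → charDegree (φ : N → ℂ) ≠ 1 →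
      charDegree (ψ : N → ℂ) = charDegree (φ : N → ℂ)) ∨ commutator N ≤ C := by
  classical
  haveI := Fintype.ofFinite C
  by_cases hC : commutator C = ⊥
  · left
    intro ψ φ hψ hφ
    have hab : ∀ a : N, a ∈ C → ∀ b : N, b ∈ C → a * b = b * a := by
      intro a ha b hb
      have hm : ⁅(⟨a, ha⟩ : C), (⟨b, hb⟩ : C)⁆ ∈ commutator C :=
        Subgroup.commutator_mem_commutator (Subgroup.mem_top _) (Subgroup.mem_top _)
      rw [hC, Subgroup.mem_bot, commutatorElement_eq_one_iff_mul_comm] at hm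
      exact congrArg Subtype.val hm
    obtain ⟨i, -, hi⟩ := (Nat.dvd_prime_pow hq).1 (hidx ▸
      degree_dvd_index_of_comm C hab ψ.2 ψ.2.apply_one_eq_charDegree)
    obtain ⟨j, -, hj⟩ := (Nat.dvd_prime_pow hq).1 (hidx ▸
      degree_dvd_index_of_comm C hab φ.2 φ.2.apply_one_eq_charDegree)
    rcases Nat.le_total i j with h | h
    · exact hnd ψ φ hψ hφ (by rw [hi, hj]; exact pow_dvd_pow q h)
    · exact (hnd φ ψ hφ hψ (by rw [hi, hj]; exact pow_dvd_pow q h)).symm
  right
  by_contra hNC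
  obtain ⟨θ, hθd⟩ : ∃ θ : IrrCharacter C, charDegree (θ : C → ℂ) ≠ 1 := by
    by_contra h
    push Not at h
    exact hC (commutator_eq_bot_of_linear h)
  haveI := Fintype.ofFinite (N ⧸ C)
  obtain ⟨β₀, hβ₀⟩ : ∃ β : IrrCharacter (N ⧸ C), charDegree (β : N ⧸ C → ℂ) ≠ 1 := by
    by_contra h
    push Not at h
    refine hNC (fun x hx => (QuotientGroup.eq_one_iff x).1 ?_)
    have hm : QuotientGroup.mk' C x ∈ commutator (N ⧸ C) := by
      rw [commutator_def, ← Subgroup.map_top_of_surjective _ (QuotientGroup.mk'_surjective C),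
        ← Subgroup.map_commutator]
      exact ⟨x, hx, rfl⟩
    rw [commutator_eq_bot_of_linear h, Subgroup.mem_bot] at hm
    exact hm
  set β : N → ℂ := fun x => (β₀ : N ⧸ C → ℂ) x with hβ
  have hβirr : IsIrrCharacter N β := isIrrCharacter_inflate C β₀.2
  have hβdeg : charDegree β = charDegree (β₀ : N ⧸ C → ℂ) := rfl
  have hβC : ∀ x ∈ C, β x = β 1 := fun x hx => by
    show (β₀ : N ⧸ C → ℂ) x = (β₀ : N ⧸ C → ℂ) ((1 : N) : N ⧸ C)
    rw [(QuotientGroup.eq_one_iff x).2 hx, QuotientGroup.mk_one]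
  -- the inertia group of `θ`
  set T := inertia C (θ : C → ℂ) with hT
  haveI := Fintype.ofFinite T
  have hCT : C ≤ T := le_inertia C θ.2.isClassFunction
  haveI : (C.subgroupOf T).Normal := (inferInstance : C.Normal).subgroupOf T
  haveI := Fintype.ofFinite (C.subgroupOf T)
  obtain ⟨j, -, hTidx⟩ := (Nat.dvd_prime_pow hq).1 (hidx ▸ Subgroup.index_dvd_of_le hCT)
  have hinv : ∀ g : T, conjTwist (C.subgroupOf T) (resTo C (θ : C → ℂ) T) g = resTo C (θ : C → ℂ) T := by
    intro g
    funext x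
    have := (mem_inertia_iff C).1 g.2 ⟨((x : T) : N), Subgroup.mem_subgroupOf.1 x.2⟩
    exact this
  have hrel : ∃ i, (C.subgroupOf T).index = q ^ i := by
    obtain ⟨i, -, hi⟩ := (Nat.dvd_prime_pow hq).1 (hidx ▸ Subgroup.relIndex_dvd_index_of_le hCT)
    exact ⟨i, hi⟩
  obtain ⟨θt, hθt, hθtres⟩ := exists_extension_of_coprime (C.subgroupOf T)
    (isIrrCharacter_resTo C θ.2 hCT) hinv (by
      obtain ⟨i, hi⟩ := hrel
      rw [hi, Nat.card_congr (Subgroup.subgroupOfEquivOfLe hCT).toEquiv]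
      exact Nat.Coprime.pow_right i hcop)
  have hθtC : (fun c : C => θt ⟨c, hCT c.2⟩) = (θ : C → ℂ) := funext fun c =>
    congrFun hθtres ⟨⟨c, hCT c.2⟩, Subgroup.mem_subgroupOf.2 c.2⟩
  have hθt1 : θt 1 = (θ : C → ℂ) 1 := congrFun hθtC 1
  have hclif := clifford_induce C θ.2 hCT hT hθt (by
    rw [hθtC, classInner_irr_self θ.2]; exact one_ne_zero)
  have hψ1deg : charDegree (indFun T θt) = T.index * charDegree (θ : C → ℂ) :=
    Cfsg.Lib.Block.charDegree_eq_of_apply_one (by
      rw [indFun_apply_one, hθt1, θ.2.apply_one_eq_charDegree, Nat.cast_mul])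
  have hθ2 : 1 < charDegree (θ : C → ℂ) := lt_of_le_of_ne θ.2.charDegree_pos (Ne.symm hθd)
  have hT0 : 0 < T.index := Nat.pos_of_ne_zero Subgroup.index_ne_zero_of_finite
  have hlt : T.index < T.index * charDegree (θ : C → ℂ) := lt_mul_of_one_lt_right hT0 hθ2
  -- a constituent of the restriction of `β` is linear
  obtain ⟨μ, hμ⟩ := exists_constituent (hβirr.isCharacter.comp T.subtype)
    (by simpa using hβirr.apply_one_ne_zero)
  have hμC : ∀ c : C.subgroupOf T, (μ : T → ℂ) c = (μ : T → ℂ) 1 := fun c =>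
    apply_eq_of_constituent (hβirr.isCharacter.comp T.subtype) μ.2 hμ
      (hβC _ (Subgroup.mem_subgroupOf.1 c.2))
  have hone : (fun _ : C.subgroupOf T => (1 : ℂ)) * resTo C (θ : C → ℂ) T =
      resTo C (θ : C → ℂ) T := by funext n; simp
  have hbij := gallagher_bijOn (C.subgroupOf T) (φ := fun _ => (1 : ℂ))
    (ϑ := resTo C (θ : C → ℂ) T) isIrrCharacter_one (fun g => by funext n; rfl) hinv
    (by rw [hone]; exact isIrrCharacter_resTo C θ.2 hCT) hθt.isCharacter (congrFun hθtres)
  have hmem : (μ : T → ℂ) ∈ {γ : T → ℂ | IsIrrCharacter T γ ∧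
      classInner (indFun (C.subgroupOf T) (fun _ : C.subgroupOf T => (1 : ℂ))) γ ≠ 0} := by
    refine ⟨μ.2, ?_⟩
    rw [classInner_indFun (C.subgroupOf T) _ μ.2.isClassFunction, ← classInner_conj_symm,
      show (fun n : C.subgroupOf T => (μ : T → ℂ) n) = fun _ => (μ : T → ℂ) 1 from funext hμC,
      classInner_one_right, Finset.sum_const, Finset.card_univ, nsmul_eq_mul,
      Nat.card_eq_fintype_card, ← mul_assoc,
      inv_mul_cancel₀ (Nat.cast_ne_zero.2 Fintype.card_ne_zero), one_mul]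
    exact fun h0 => μ.2.apply_one_ne_zero ((map_eq_zero _).1 h0)
  have hprodirr : IsIrrCharacter T ((μ : T → ℂ) * θt) := (hbij.mapsTo hmem).1
  have hprodC : (fun c : C => ((μ : T → ℂ) * θt) ⟨c, hCT c.2⟩) =
      (μ : T → ℂ) 1 • (θ : C → ℂ) := by
    funext c
    have e := hμC ⟨⟨c, hCT c.2⟩, Subgroup.mem_subgroupOf.2 c.2⟩
    simp only [Pi.mul_apply, Pi.smul_apply, smul_eq_mul, ← congrFun hθtC c]
    rw [e]
  have hclif2 := clifford_induce C θ.2 hCT hT hprodirr (by
    rw [hprodC, classInner_smul_left, classInner_irr_self θ.2, mul_one]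
    exact μ.2.apply_one_ne_zero)
  have hψ2deg : charDegree (indFun T ((μ : T → ℂ) * θt)) =
      T.index * charDegree (θ : C → ℂ) * charDegree (μ : T → ℂ) :=
    Cfsg.Lib.Block.charDegree_eq_of_apply_one (by
      rw [indFun_apply_one, Pi.mul_apply, hθt1, θ.2.apply_one_eq_charDegree,
        μ.2.apply_one_eq_charDegree]
      push_cast
      ring)
  have hψ1ne : charDegree (indFun T θt) ≠ 1 := by rw [hψ1deg]; omega
  have hμ1 : charDegree (μ : T → ℂ) = 1 := by
    have hpos := μ.2.charDegree_pos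
    have e := hnd ⟨_, hclif.1⟩ ⟨_, hclif2.1⟩ hψ1ne
      (by
        show charDegree (indFun T ((μ : T → ℂ) * θt)) ≠ 1
        rw [hψ2deg]
        intro h
        have := Nat.eq_one_of_mul_eq_one_right h
        omega)
      (by
        show charDegree (indFun T θt) ∣ charDegree (indFun T ((μ : T → ℂ) * θt))
        rw [hψ1deg, hψ2deg]
        exact dvd_mul_right _ _)
    change charDegree (indFun T θt) = charDegree (indFun T ((μ : T → ℂ) * θt)) at e
    rw [hψ1deg, hψ2deg] at e
    exact (Nat.mul_eq_left (by omega)).1 e.symm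
  have hle : charDegree β ≤ T.index := by
    have h := degree_le_of_constituent hβirr (isCharacter_indFun T μ.2.isCharacter) (by
      rw [classInner_indFun T _ hβirr.isClassFunction, ← classInner_conj_symm]
      exact fun e => hμ ((map_eq_zero _).1 e))
    rw [indFun_apply_one, μ.2.apply_one_eq_charDegree, hμ1, hβirr.apply_one_eq_charDegree] at h
    simpa using h
  obtain ⟨i, -, hi⟩ := (Nat.dvd_prime_pow hq).1 (hidx ▸ show charDegree β ∣ C.index by
    rw [hβdeg, Subgroup.index_eq_card]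
    exact degree_dvd_card β₀.2 β₀.2.apply_one_eq_charDegree)
  have hdvd : charDegree β ∣ T.index := by
    rw [hi, hTidx] at hle ⊢
    exact pow_dvd_pow q ((Nat.pow_le_pow_iff_right hq.one_lt).1 hle)
  have e := hnd ⟨_, hβirr⟩ ⟨_, hclif.1⟩ (hβdeg ▸ hβ₀) hψ1ne (by
    show charDegree β ∣ charDegree (indFun T θt)
    rw [hψ1deg]
    exact hdvd.mul_right _)
  change charDegree β = charDegree (indFun T θt) at e
  rw [hψ1deg] at e
  omega

end Cfsg.Lib.Char.NoDivide
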