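import Cfsg.Agent.Lib.Char.RelDegree
import Cfsg.Agent.Lib.Char.Clifford2
import Cfsg.Agent.Lib.Char.Linear

/-!
# The configuration behind a disconnected degree graph without divisibility

`N` is the derived group extended by an abelian complement `H`, normalised by an automorphism `σ`
with a power inner by an element of `H`; nonlinear characters are `σ`-invariant, and their degrees
are prime to the order of `σ` modulo inner automorphisms and do not divide one another.
-/

set_option autoImplicit false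
set_option linter.unusedSectionVars false
set_option linter.style.haveILetI false

namespace Cfsg.Lib.Char.NoDivide

open Cfsg Cfsg.Lib.Char Cfsg.Lib.Char.RelDeg

universe u

/-- The configuration. -/
structure Config (N : Type u) [Group N] where
  H : Subgroup N
  σ : MulAut N
  ℓ : ℕ
  hℓ : ℓ.Prime
  z : N
  hz : z ∈ H
  hpow : σ ^ ℓ = MulAut.conj z
  hσH : ∀ h ∈ H, σ h ∈ H
  hcomm : ∀ a ∈ H, ∀ b ∈ H, a * b = b * a
  hinf : H ⊓ commutator N = ⊥
  hsup : commutator N ⊔ H = ⊤
  hmov : ∃ h ∈ H, σ h ≠ h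
  hfpf : ∀ h ∈ H, σ h ≠ h → ∀ w ∈ commutator N, h * w = w * h → w = 1
  hinv : ∀ ψ : IrrCharacter N, charDegree (ψ : N → ℂ) ≠ 1 → ∀ n, (ψ : N → ℂ) (σ n) = (ψ : N → ℂ) n
  hcop : ∀ ψ : IrrCharacter N, charDegree (ψ : N → ℂ) ≠ 1 → ℓ.Coprime (charDegree (ψ : N → ℂ))
  hnd : ∀ ψ φ : IrrCharacter N, charDegree (ψ : N → ℂ) ≠ 1 → charDegree (φ : N → ℂ) ≠ 1 →
    charDegree (ψ : N → ℂ) ∣ charDegree (φ : N → ℂ) →
      charDegree (ψ : N → ℂ) = charDegree (φ : N → ℂ)

namespace Config

variable {N : Type u} [Group N] [Fintype N] [Fintype (commutator N)] (c : Config N)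

include c

/-- The part of `H` fixed by `σ`. -/
def fixedPart : Subgroup N := c.H ⊓ MonoidHom.eqLocus c.σ.toMonoidHom (MonoidHom.id N)

theorem mem_fixedPart {h : N} : h ∈ c.fixedPart ↔ h ∈ c.H ∧ c.σ h = h := Iff.rfl

theorem σ_symm_mem {h : N} (hh : h ∈ c.H) : c.σ.symm h ∈ c.H := by
  have hbij : Function.Bijective (fun x : c.H => (⟨c.σ x, c.hσH x x.2⟩ : c.H)) :=
    Finite.injective_iff_bijective.mp fun a b h => Subtype.ext (c.σ.injective (congrArg Subtype.val h))
  obtain ⟨a, ha⟩ := hbij.2 ⟨h, hh⟩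
  rw [show h = c.σ a from (congrArg Subtype.val ha).symm, MulEquiv.symm_apply_apply]
  exact a.2

theorem mem_commutator_map {w : N} (hw : w ∈ commutator N) : c.σ w ∈ commutator N := by
  have h : (commutator N).map c.σ.toMonoidHom ≤ commutator N := by
    rw [commutator_def, Subgroup.map_commutator]
    exact Subgroup.commutator_mono le_top le_top
  exact h ⟨w, hw, rfl⟩

theorem exists_mul (n : N) : ∃ w ∈ commutator N, ∃ h ∈ c.H, n = w * h := by
  have hn : n ∈ commutator N ⊔ c.H := c.hsup ▸ Subgroup.mem_top n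
  obtain ⟨w, hw, h, hh, rfl⟩ := Subgroup.mem_sup_of_normal_left.1 hn
  exact ⟨w, hw, h, hh, rfl⟩

theorem mul_unique {w w' h h' : N} (hw : w ∈ commutator N) (hw' : w' ∈ commutator N) (hh : h ∈ c.H)
    (hh' : h' ∈ c.H) (e : w * h = w' * h') : w = w' ∧ h = h' := by
  have h1 : h' * h⁻¹ ∈ c.H ⊓ commutator N := by
    refine Subgroup.mem_inf.2 ⟨mul_mem hh' (inv_mem hh), ?_⟩
    rw [show h' * h⁻¹ = w'⁻¹ * w by
      rw [eq_inv_mul_iff_mul_eq, ← mul_assoc, ← e, mul_assoc, mul_inv_cancel, mul_one]]
    exact mul_mem (inv_mem hw') hw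
  rw [c.hinf, Subgroup.mem_bot, mul_inv_eq_one] at h1
  refine ⟨?_, h1.symm⟩
  rw [h1] at e
  exact mul_right_cancel e

/-- `σ` restricted to the derived subgroup. -/
def sW : commutator N →* commutator N :=
  (c.σ.toMonoidHom.comp (commutator N).subtype).codRestrict _ fun w => c.mem_commutator_map w.2

theorem sW_bij : Function.Bijective c.sW :=
  Finite.injective_iff_bijective.mp fun a b h =>
    Subtype.ext (c.σ.injective (congrArg Subtype.val h))

/-- The action of `σ` on linear characters of the derived subgroup. -/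
def act (L : commutator N →* ℂˣ) : commutator N →* ℂˣ := L.comp c.sW

theorem act_mul (L M : commutator N →* ℂˣ) : c.act (L * M) = c.act L * c.act M := rfl

theorem act_injective : Function.Injective c.act := fun L M h => MonoidHom.ext fun w => by
  obtain ⟨v, rfl⟩ := c.sW_bij.2 w
  exact DFunLike.congr_fun h v

omit c in
theorem twHom_mul_hom (L M : commutator N →* ℂˣ) (g : N) :
    twHom (commutator N) (L * M) g = twHom (commutator N) L g * twHom (commutator N) M g := rfl

omit c in
theorem twHom_one_hom (g : N) : twHom (commutator N) (1 : commutator N →* ℂˣ) g = 1 := rfl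

omit c in
theorem twHom_twHom (L : commutator N →* ℂˣ) (g k : N) :
    twHom (commutator N) (twHom (commutator N) L g) k = twHom (commutator N) L (g * k) := by
  refine MonoidHom.ext fun w => congrArg L (Subtype.ext ?_)
  simp [mul_assoc]

omit c in
theorem twHom_one (L : commutator N →* ℂˣ) : twHom (commutator N) L 1 = L :=
  MonoidHom.ext fun w => congrArg L (Subtype.ext (by simp))

omit c in
theorem twHom_of_mem (L : commutator N →* ℂˣ) {w : N} (hw : w ∈ commutator N) :
    twHom (commutator N) L w = L :=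
  MonoidHom.ext fun v => by
    show L (MulAut.conjNormal w v) = L v
    rw [show MulAut.conjNormal w v = (⟨w, hw⟩ : commutator N) * v * (⟨w, hw⟩ : commutator N)⁻¹ from
      Subtype.ext (by simp), map_mul, map_mul, map_inv, mul_comm (L ⟨w, hw⟩), mul_inv_cancel_right]

omit c in
theorem twHom_injective {L M : commutator N →* ℂˣ} {g : N}
    (h : twHom (commutator N) L g = twHom (commutator N) M g) : L = M := by
  rw [← twHom_one L, ← twHom_one M, ← mul_inv_cancel g, ← twHom_twHom, h, twHom_twHom]

theorem twHom_eq_of_h {L : commutator N →* ℂˣ} {g : N} :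
    ∃ h ∈ c.H, twHom (commutator N) L g = twHom (commutator N) L h := by
  obtain ⟨w, hw, h, hh, rfl⟩ := c.exists_mul g
  exact ⟨h, hh, by rw [← twHom_twHom, twHom_of_mem L hw]⟩

theorem act_twHom (L : commutator N →* ℂˣ) (y : N) :
    c.act (twHom (commutator N) L y) = twHom (commutator N) (c.act L) (c.σ.symm y) := by
  refine MonoidHom.ext fun w => congrArg L (Subtype.ext ?_)
  simp [sW, MulAut.conjNormal_apply]

/-- A moved element of `H` fixes no nontrivial linear character. -/
theorem eq_one_of_moved {L : commutator N →* ℂˣ} {h : N} (hh : h ∈ c.H) (hm : c.σ h ≠ h)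
    (hL : twHom (commutator N) L h = L) : L = 1 := by
  have hinj : Function.Injective (fun w : commutator N => w⁻¹ * MulAut.conjNormal h w) := by
    intro a b e
    have e1 : (a : N)⁻¹ * (h * a * h⁻¹) = (b : N)⁻¹ * (h * b * h⁻¹) := by
      have := congrArg Subtype.val e
      simpa using this
    have e2 : h * ((b : N) * (a : N)⁻¹) = ((b : N) * (a : N)⁻¹) * h := by
      calc h * ((b : N) * (a : N)⁻¹) = h * b * h⁻¹ * (h * a * h⁻¹)⁻¹ * h := by group
        _ = b * ((b : N)⁻¹ * (h * b * h⁻¹)) * ((a : N)⁻¹ * (h * a * h⁻¹))⁻¹ * (a : N)⁻¹ * h := by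
          group
        _ = _ := by rw [← e1]; group
    have := c.hfpf h hh hm _ (mul_mem b.2 (inv_mem a.2)) e2
    exact Subtype.ext (mul_inv_eq_one.1 this).symm
  refine MonoidHom.ext fun v => ?_
  obtain ⟨w, rfl⟩ := (Finite.injective_iff_bijective.mp hinj).2 v
  rw [MonoidHom.one_apply, map_mul, map_inv, show L (MulAut.conjNormal h w) = L w from
    DFunLike.congr_fun hL w, inv_mul_cancel]

/-- The inertia group of a linear character. -/
abbrev stab (L : commutator N →* ℂˣ) : Subgroup N := inertia (commutator N) (lin L)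

omit c in
theorem mem_stab {L : commutator N →* ℂˣ} {g : N} :
    g ∈ stab L ↔ twHom (commutator N) L g = L := mem_inertia_lin _

omit c in
theorem commutator_le_stab (L : commutator N →* ℂˣ) : commutator N ≤ stab L :=
  fun _ hw => mem_stab.2 (twHom_of_mem L hw)

theorem mem_stab_iff {L : commutator N →* ℂˣ} {w h : N} (hw : w ∈ commutator N) :
    w * h ∈ stab L ↔ h ∈ stab L :=
  ⟨fun e => by simpa using mul_mem (inv_mem (commutator_le_stab L hw)) e,
    fun e => mul_mem (commutator_le_stab L hw) e⟩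

/-- Every nontrivial linear character has a character of degree equal to the index of its inertia
group above it. -/
theorem exists_degree_eq {L : commutator N →* ℂˣ} (hL : L ≠ 1) :
    ∃ ψ : IrrCharacter N, charDegree (ψ : N → ℂ) = (stab L).index ∧
      charDegree (ψ : N → ℂ) ≠ 1 ∧
      classInner (fun w : commutator N => (ψ : N → ℂ) w) (lin L) ≠ 0 := by
  classical
  set I := stab L with hI
  haveI := Fintype.ofFinite I
  choose wp hwp hp hhp hmul using fun i : I => c.exists_mul (i : N)
  have hhI : ∀ i : I, hp i ∈ I := fun i => (c.mem_stab_iff (hwp i)).1 (hmul i ▸ i.2)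
  let f : I →* ℂˣ := MonoidHom.mk' (fun i => L ⟨wp i, hwp i⟩) fun i j => by
    have e : wp (i * j) * hp (i * j) =
        (wp i * (hp i * wp j * (hp i)⁻¹)) * (hp i * hp j) := by
      rw [← hmul, Subgroup.coe_mul, hmul i, hmul j]
      group
    have hc : hp i * wp j * (hp i)⁻¹ ∈ commutator N :=
      (inferInstance : (commutator N).Normal).conj_mem _ (hwp j) _
    have e1 := (c.mul_unique (hwp _) (mul_mem (hwp i) hc) (hhp _) (mul_mem (hhp i) (hhp j)) e).1
    have e2 : (⟨wp (i * j), hwp _⟩ : commutator N) =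
        ⟨wp i, hwp i⟩ * MulAut.conjNormal (hp i) ⟨wp j, hwp j⟩ := Subtype.ext (e1.trans (by simp))
    rw [e2, map_mul]
    congr 1
    exact DFunLike.congr_fun (mem_stab.1 (hhI i)) ⟨wp j, hwp j⟩
  have hres : ∀ w : commutator N, f ⟨w, commutator_le_stab L w.2⟩ = L w := by
    intro w
    have e := (c.mul_unique (hwp ⟨w, commutator_le_stab L w.2⟩) w.2
      (hhp _) (one_mem _) (by rw [← hmul, mul_one])).1
    show L ⟨_, _⟩ = L w
    exact congrArg L (Subtype.ext e)
  have hfres : (fun w : commutator N =>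
      (fun i : I => (f i : ℂ)) ⟨w, commutator_le_stab L w.2⟩) = lin L :=
    funext fun w => congrArg Units.val (hres w)
  have hclif := clifford_induce (commutator N) (isIrr_lin (commutator N) L) (commutator_le_stab L)
    hI (isIrrCharacter_linear f) (by
      rw [hfres, classInner_irr_self (isIrr_lin (commutator N) L)]
      exact one_ne_zero)
  have hdeg : charDegree (indFun I fun i : I => (f i : ℂ)) = I.index :=
    Cfsg.Lib.Block.charDegree_eq_of_apply_one (by rw [indFun_apply_one]; simp)
  refine ⟨⟨_, hclif.1⟩, hdeg, ?_, ?_⟩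
  · show charDegree (indFun I fun i : I => (f i : ℂ)) ≠ 1
    rw [hdeg, Ne, Subgroup.index_eq_one]
    intro e
    obtain ⟨h, hh, hm⟩ := c.hmov
    exact hL (c.eq_one_of_moved hh hm (mem_stab.1 (by rw [← hI, e]; trivial)))
  · show classInner (fun w : commutator N => indFun I (fun i : I => (f i : ℂ)) w) (lin L) ≠ 0
    rw [hclif.2, hfres, classInner_irr_self (isIrr_lin (commutator N) L)]
    exact one_ne_zero

/-- The image of a linear character under `σ` lies in its orbit. -/
theorem exists_act_eq (L : commutator N →* ℂˣ) :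
    ∃ h ∈ c.H, c.act L = twHom (commutator N) L h := by
  classical
  rcases eq_or_ne L 1 with rfl | hL
  · exact ⟨1, one_mem _, by rw [twHom_one]; rfl⟩
  obtain ⟨ψ, -, hne, hc⟩ := c.exists_degree_eq hL
  have hc' : classInner (fun w : commutator N => (ψ : N → ℂ) w) (lin (c.act L)) ≠ 0 := by
    have e : classInner (fun w : commutator N => (ψ : N → ℂ) w) (lin (c.act L)) =
        classInner (fun w : commutator N => (ψ : N → ℂ) w) (lin L) := by
      simp only [classInner]
      congr 1
      refine Fintype.sum_bijective c.sW c.sW_bij _ _ fun w => ?_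
      have hψ : (ψ : N → ℂ) (c.sW w : N) = (ψ : N → ℂ) w := c.hinv ψ hne w
      rw [hψ]
      rfl
    rwa [e]
  obtain ⟨g, hg⟩ := (mem_twistOrbit _).1 (mem_twistOrbit_of_constituent (commutator N) ψ.2
    (isIrr_lin (commutator N) L) (isIrr_lin (commutator N) (c.act L)) hc hc')
  rw [conjTwist_lin] at hg
  obtain ⟨h, hh, e⟩ := c.twHom_eq_of_h (L := L) (g := g)
  exact ⟨h, hh, ((linearChar_injective hg.symm).trans e)⟩

theorem stab_inf_le {L : commutator N →* ℂˣ} (hL : L ≠ 1) : stab L ⊓ c.H ≤ c.fixedPart :=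
  fun h hh => ⟨hh.2, by_contra fun hm => hL (c.eq_one_of_moved hh.2 hm (mem_stab.1 hh.1))⟩

theorem relIndex_stab (L : commutator N →* ℂˣ) : (stab L).relIndex c.H = (stab L).index := by
  haveI : (stab L).Normal := ⟨fun x hx g => by
    have hgx : g * x * g⁻¹ * x⁻¹ ∈ stab L := commutator_le_stab L
      (Subgroup.commutator_mem_commutator (Subgroup.mem_top g) (Subgroup.mem_top x))
    simpa using mul_mem hgx hx⟩
  rw [← Subgroup.relIndex_sup_right, ← Subgroup.relIndex_top_right]
  congr 1
  exact top_le_iff.1 (c.hsup ▸ sup_le (le_sup_of_le_right (commutator_le_stab L)) le_sup_left)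

/-- The index of the fixed part is prime to `ℓ`. -/
theorem coprime_index {L : commutator N →* ℂˣ} (hL : L ≠ 1) :
    c.ℓ.Coprime (c.fixedPart.relIndex c.H) := by
  obtain ⟨ψ, hdeg, hne, -⟩ := c.exists_degree_eq hL
  refine Nat.Coprime.coprime_dvd_right ?_ (hdeg ▸ c.hcop ψ hne)
  have h1 := Subgroup.relIndex_dvd_of_le_left c.H (c.stab_inf_le hL)
  rwa [Subgroup.inf_relIndex_right, c.relIndex_stab] at h1

theorem σ_pow_apply {h : N} (hh : h ∈ c.H) : (c.σ ^ c.ℓ) h = h := by
  rw [c.hpow, MulAut.conj_apply, c.hcomm c.z c.hz h hh, mul_inv_cancel_right]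

theorem mem_fixedPart_of_div {L : commutator N →* ℂˣ} (hL : L ≠ 1) {y : N} (hy : y ∈ c.H)
    (hd : c.σ y * y⁻¹ ∈ c.fixedPart) : y ∈ c.fixedPart := by
  set s := c.σ y * y⁻¹ with hs
  have hσy : c.σ y = s * y := by rw [hs, inv_mul_cancel_right]
  have hit : ∀ k : ℕ, (c.σ ^ k) y = s ^ k * y := by
    intro k
    induction k with
    | zero => simp
    | succ k ih =>
      rw [pow_succ', MulAut.mul_apply, ih, map_mul, map_pow, (c.mem_fixedPart.1 hd).2, hσy,
        pow_succ]
      simp only [mul_assoc]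
  have h1 : s ^ c.ℓ = 1 := by
    have e := hit c.ℓ
    rw [c.σ_pow_apply hy] at e
    exact mul_eq_right.1 e.symm
  haveI : (c.fixedPart.subgroupOf c.H).Normal := ⟨fun x hx g => by
    rw [show g * x * g⁻¹ = x from Subtype.ext (by
      simp only [Subgroup.coe_mul, InvMemClass.coe_inv]
      rw [c.hcomm g g.2 x x.2, mul_inv_cancel_right])]
    exact hx⟩
  have h2 : y ^ c.fixedPart.relIndex c.H ∈ c.fixedPart :=
    Subgroup.pow_index_mem (c.fixedPart.subgroupOf c.H) ⟨y, hy⟩
  have h3 : s ^ c.fixedPart.relIndex c.H = 1 := by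
    have e := (c.mem_fixedPart.1 h2).2
    rw [map_pow, hσy, (show Commute s y from c.hcomm s hd.1 y hy).mul_pow] at e
    exact mul_eq_right.1 e
  have h4 : s = 1 := RelDeg.eq_one_of_pow_coprime h1 h3 (c.coprime_index hL)
  exact ⟨hy, by show c.σ y = y; rw [hσy, h4, one_mul]⟩

end Config

end Cfsg.Lib.Char.NoDivide
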