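import Cfsg.Agent.Lib.Char.NoDivide.Twist
import Cfsg.Agent.Lib.Char.NoDivide.Count
import Cfsg.Agent.Lib.Char.AbelianInertia
import Mathlib.GroupTheory.FiniteAbelian.Duality

/-!
# The derived subgroup of the configuration is abelian, and there is one nonlinear degree
-/

set_option autoImplicit false
set_option linter.unusedSectionVars false
set_option linter.style.haveILetI false

namespace Cfsg.Lib.Char.NoDivide.Config

open Cfsg Cfsg.Lib.Char Cfsg.Lib.Char.RelDeg
open scoped commutatorElement

universe u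

variable {N : Type u} [Group N] [Fintype N] [Fintype (commutator N)] (c : Config N)

omit [Fintype N] in
theorem card_linear : Nat.card (commutator N →* ℂˣ) = (commutator (commutator N)).index := by
  haveI : Fintype (Abelianization (commutator N)) := Fintype.ofFinite _
  haveI : NeZero (Monoid.exponent (Abelianization (commutator N))) :=
    ⟨Monoid.ExponentExists.of_finite.exponent_ne_zero⟩
  rw [Subgroup.index_eq_card, ← Nat.card_congr (Abelianization.lift (A := ℂˣ)
    (G := commutator N)).symm]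
  exact CommGroup.card_monoidHom_of_hasEnoughRootsOfUnity (Abelianization (commutator N)) ℂ

include c

omit c in
theorem commutator_lt {W : Type u} [Group W] [Group.IsNilpotent W] (h : commutator W ≠ ⊥) :
    ¬ commutator W ≤ ⁅commutator W, (⊤ : Subgroup W)⁆ := by
  intro hle
  obtain ⟨n, hn⟩ := Subgroup.nilpotent_iff_lowerCentralSeries.1 (inferInstance : Group.IsNilpotent W)
  have : ∀ k, commutator W ≤ (⊤ : Subgroup W).lowerCentralSeries k := by
    intro k
    induction k with
    | zero => exact le_top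
    | succ k ih => exact hle.trans (Subgroup.commutator_mono ih le_rfl)
  exact h (le_bot_iff.1 (hn ▸ this n))

theorem card_range_dvd {L : commutator N →* ℂˣ} (hL : L ≠ 1) [Finite (commutator N →* ℂˣ)] :
    c.fixedPart.relIndex c.H ∣ Nat.card (commutator N →* ℂˣ) - 1 := by
  rw [← c.card_divHom_range]
  refine card_dvd_of_free (1 : commutator N →* ℂˣ) (fun t M => twHom (commutator N) M (t : N))
    (fun M => by simp only [OneMemClass.coe_one]; exact twHom_one M) (fun x y M => ?_) (fun t => rfl)
    fun t M hM e => ?_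
  · obtain ⟨a, ha⟩ := x.2
    obtain ⟨b, hb⟩ := y.2
    simp only [Subgroup.coe_mul, twHom_twHom]
    rw [c.hcomm _ (ha ▸ c.divHom_mem a) _ (hb ▸ c.divHom_mem b)]
  · by_contra ht
    obtain ⟨hH, hm⟩ := c.divHom_moved hL t.2 fun h => ht (Subtype.ext h)
    exact hM (c.eq_one_of_moved hH hm e)

/-- Iterates of the action of `σ` on a character that it translates. -/
theorem act_iterate {M : commutator N →* ℂˣ} {h : N}
    (e : c.act M = twHom (commutator N) M h) : ∀ k : ℕ,
    c.act^[k] M = twHom (commutator N) M ((fun x => h * c.σ.symm x)^[k] 1) := by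
  intro k
  induction k with
  | zero => simp [twHom_one]
  | succ k ih =>
    rw [Function.iterate_succ_apply', Function.iterate_succ_apply', ih, c.act_twHom, e, twHom_twHom]

theorem act_iterate_ℓ (M : commutator N →* ℂˣ) : c.act^[c.ℓ] M = twHom (commutator N) M c.z := by
  have e : ∀ k, ∀ K : commutator N →* ℂˣ, ∀ w : commutator N, ∀ hw,
      (c.act^[k] K) w = K ⟨(c.σ ^ k) (w : N), hw⟩ := by
    intro k
    induction k with
    | zero => intro K w hw; rfl
    | succ k ih =>
      intro K w hw
      rw [Function.iterate_succ_apply]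
      have hw' : (c.σ ^ k) (w : N) ∈ commutator N := by
        rw [pow_succ', MulAut.mul_apply] at hw
        obtain ⟨v, hv⟩ := c.sW_bij.2 ⟨_, hw⟩
        have hv' : c.σ (v : N) = c.σ ((c.σ ^ k) (w : N)) := congrArg Subtype.val hv
        exact c.σ.injective hv' ▸ v.2
      rw [ih _ w hw']
      show K (c.sW _) = _
      refine congrArg K (Subtype.ext ?_)
      show c.σ ((c.σ ^ k) (w : N)) = (c.σ ^ (k + 1)) (w : N)
      exact (DFunLike.congr_fun (pow_succ' c.σ k) (w : N)).symm
  refine MonoidHom.ext fun w => ?_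
  have h0 : (c.σ ^ c.ℓ) (w : N) = c.z * w * c.z⁻¹ := by rw [c.hpow, MulAut.conj_apply]
  rw [e c.ℓ M w (h0 ▸ (inferInstance : (commutator N).Normal).conj_mem _ w.2 _)]
  exact congrArg M (Subtype.ext (h0.trans (by simp)))

theorem iterate_mul {h s : N} (hh : h ∈ c.H) (hs : s ∈ c.fixedPart) : ∀ k : ℕ,
    (fun x => h * c.σ.symm x)^[k] 1 ∈ c.H ∧
    (fun x => h * s * c.σ.symm x)^[k] 1 = (fun x => h * c.σ.symm x)^[k] 1 * s ^ k := by
  intro k
  induction k with
  | zero => simp
  | succ k ih =>
    obtain ⟨h1, h2⟩ := ih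
    simp only [Function.iterate_succ_apply']
    refine ⟨mul_mem hh (c.σ_symm_mem h1), ?_⟩
    have hsσ : c.σ.symm s = s := by rw [MulEquiv.symm_apply_eq, (c.mem_fixedPart.1 hs).2]
    rw [h2, map_mul, map_pow, hsσ, pow_succ', mul_assoc h s, ← mul_assoc s,
      c.hcomm s hs.1 _ (c.σ_symm_mem h1)]
    simp only [mul_assoc]

/-- Translations in one class modulo the fixed part agree. -/
theorem translation_unique {L A B : commutator N →* ℂˣ} (hL : L ≠ 1) (hA : A ≠ 1) (hB : B ≠ 1)
    {h k : N} (hh : h ∈ c.H) (hk : k ∈ c.H) (eA : c.act A = twHom (commutator N) A h)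
    (eB : c.act B = twHom (commutator N) B k) (hf : h⁻¹ * k ∈ c.fixedPart) :
    c.act B = twHom (commutator N) B h := by
  set s := h⁻¹ * k with hs
  have hk' : k = h * s := by rw [hs, mul_inv_cancel_left]
  have h1 := (c.act_iterate eA c.ℓ).symm.trans (c.act_iterate_ℓ A)
  have h2 := (c.act_iterate eB c.ℓ).symm.trans (c.act_iterate_ℓ B)
  obtain ⟨hPH, hP⟩ := c.iterate_mul hh hf c.ℓ
  rw [hk', hP] at h2
  set P := (fun x => h * c.σ.symm x)^[c.ℓ] 1
  have m1 : P * c.z⁻¹ ∈ stab L := c.stab_eq hA hL ▸ mem_stab.2 (by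
    rw [← twHom_twHom, h1, twHom_twHom, mul_inv_cancel, twHom_one])
  have m2 : P * s ^ c.ℓ * c.z⁻¹ ∈ stab L := c.stab_eq hB hL ▸ mem_stab.2 (by
    rw [← twHom_twHom, h2, twHom_twHom, mul_inv_cancel, twHom_one])
  have hsl : s ^ c.ℓ ∈ stab L := by
    have := mul_mem (inv_mem m1) m2
    have hz := c.hcomm (s ^ c.ℓ) (pow_mem hf.1 _) c.z⁻¹ (inv_mem c.hz)
    rwa [mul_assoc P, hz, mul_inv_rev, inv_inv, ← mul_assoc P, ← mul_assoc, mul_assoc c.z,
      inv_mul_cancel_left, mul_inv_cancel, one_mul] at this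
  haveI := normal_of_commutator_le (commutator_le_stab L)
  obtain ⟨φ, hφ, hφ1, -⟩ := c.exists_degree_eq hL
  have hcop : c.ℓ.Coprime (stab L).index := hφ ▸ c.hcop φ hφ1
  have hidx := Subgroup.pow_index_mem (stab L) s
  obtain ⟨a, b, hab⟩ := Nat.isCoprime_iff_coprime.mpr hcop
  have hsJ : s ∈ stab L := by
    rw [← zpow_one s, ← hab, zpow_add, mul_comm a, mul_comm b, zpow_mul, zpow_mul, zpow_natCast,
      zpow_natCast]
    exact mul_mem (zpow_mem hsl a) (zpow_mem hidx b)
  rw [eB, hk', c.hcomm h hh s hf.1, ← twHom_twHom, mem_stab.1 (c.stab_eq hB hL ▸ hsJ : s ∈ stab B)]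

/-- The characters translated by one element form a small group. -/
theorem card_translated {L : commutator N →* ℂˣ} (hL : L ≠ 1) [Finite (commutator N →* ℂˣ)]
    (h : N) (hh : h ∈ c.H) :
    Nat.card {A : commutator N →* ℂˣ // c.act A = twHom (commutator N) A h} *
      Nat.card {A : commutator N →* ℂˣ // c.act A = twHom (commutator N) A h} ≤
        Nat.card (commutator N →* ℂˣ) := by
  let Z : Subgroup (commutator N →* ℂˣ) :=
    { carrier := {A | c.act A = twHom (commutator N) A h}
      one_mem' := rfl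
      mul_mem' := fun {A B} (hA : c.act A = _) (hB : c.act B = _) => by
        show c.act (A * B) = _
        rw [c.act_mul, hA, hB, twHom_mul_hom]
      inv_mem' := fun {A} (hA : c.act A = twHom (commutator N) A h) => by
        show (c.act A)⁻¹ = (twHom (commutator N) A h)⁻¹
        rw [hA] }
  change Nat.card Z * Nat.card Z ≤ _
  obtain ⟨y, hy, hmy⟩ := c.hmov
  rw [← Nat.card_prod]
  refine Nat.card_le_card_of_injective
    (fun p : Z × Z => (p.1 : commutator N →* ℂˣ) * twHom (commutator N) (p.2 : commutator N →* ℂˣ) y) ?_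
  rintro ⟨a, b⟩ ⟨a', b'⟩ e
  let K : commutator N →* ℂˣ := b * (b' : commutator N →* ℂˣ)⁻¹
  have hK : twHom (commutator N) K y = (a' : commutator N →* ℂˣ) * (a : commutator N →* ℂˣ)⁻¹ :=
    MonoidHom.ext fun w => by
      have := DFunLike.congr_fun e w
      simp only [MonoidHom.mul_apply] at this
      show twHom (commutator N) (b : commutator N →* ℂˣ) y w *
        (twHom (commutator N) (b' : commutator N →* ℂˣ) y w)⁻¹ =
        (a' : commutator N →* ℂˣ) w * ((a : commutator N →* ℂˣ) w)⁻¹
      rw [mul_inv_eq_iff_eq_mul, mul_right_comm, eq_mul_inv_iff_mul_eq, mul_comm, this]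
  have hKy : twHom (commutator N) K y ∈ Z := hK ▸ mul_mem a'.2 (inv_mem a.2)
  have hKZ : K ∈ Z := mul_mem b.2 (inv_mem b'.2)
  have hK1 : K = 1 := by
    by_contra hK1
    have e1 : c.act (twHom (commutator N) K y) = twHom (commutator N) (twHom (commutator N) K y) h := hKy
    rw [c.act_twHom, show c.act K = _ from hKZ, twHom_twHom, twHom_twHom] at e1
    have h2 := c.div_mem_fixedPart hK1 (mul_mem hh (c.σ_symm_mem hy)) (mul_mem hy hh) e1
    rw [c.hcomm h hh _ (c.σ_symm_mem hy), mul_inv_rev, mul_assoc, mul_inv_cancel_left] at h2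
    have h3 := c.mem_fixedPart_of_div hL (c.σ_symm_mem hy) (by
      have := inv_mem h2
      rw [mul_inv_rev, inv_inv] at this
      rwa [MulEquiv.apply_symm_apply])
    have h4 := (c.mem_fixedPart.1 h3).2
    rw [MulEquiv.apply_symm_apply] at h4
    exact hmy (by rw [h4, MulEquiv.apply_symm_apply, ← h4])
  have hb : b = b' := Subtype.ext (RelDeg.hom_eq_of_mul_inv hK1)
  subst hb
  exact Prod.ext (Subtype.ext (mul_right_cancel (G := commutator N →* ℂˣ) e)) rfl

/-- The counting inequality. -/
theorem card_le {L : commutator N →* ℂˣ} (hL : L ≠ 1) [Finite (commutator N →* ℂˣ)] :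
    Nat.card (commutator N →* ℂˣ) - 1 ≤
      c.fixedPart.relIndex c.H * (Nat.sqrt (Nat.card (commutator N →* ℂˣ)) - 1) := by
  classical
  haveI := Fintype.ofFinite (commutator N →* ℂˣ)
  choose t ht het using fun A : commutator N →* ℂˣ => c.exists_act_eq A
  haveI : Fintype (c.H ⧸ c.fixedPart.subgroupOf c.H) := Fintype.ofFinite _
  let κ : (commutator N →* ℂˣ) → c.H ⧸ c.fixedPart.subgroupOf c.H :=
    fun A => QuotientGroup.mk ⟨t A, ht A⟩
  set S := (Finset.univ : Finset (commutator N →* ℂˣ)).erase 1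
  have hfib : ∀ q ∈ (Finset.univ : Finset (c.H ⧸ c.fixedPart.subgroupOf c.H)),
      (S.filter fun A => κ A = q).card ≤ Nat.sqrt (Nat.card (commutator N →* ℂˣ)) - 1 := by
    intro q _
    rcases (S.filter fun A => κ A = q).eq_empty_or_nonempty with h0 | ⟨A, hA⟩
    · rw [h0]; simp
    rw [Finset.mem_filter] at hA
    have hA1 : A ≠ 1 := (Finset.mem_erase.1 hA.1).1
    set F := (Finset.univ : Finset (commutator N →* ℂˣ)).filter
      fun B => c.act B = twHom (commutator N) B (t A) with hF
    have hsub : (S.filter fun B => κ B = q) ⊆ F.erase 1 := by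
      intro B hB
      rw [Finset.mem_filter] at hB
      have hB1 : B ≠ 1 := (Finset.mem_erase.1 hB.1).1
      refine Finset.mem_erase.2 ⟨hB1, Finset.mem_filter.2 ⟨Finset.mem_univ _, ?_⟩⟩
      exact c.translation_unique hL hA1 hB1 (ht A) (ht B) (het A) (het B)
        (Subgroup.mem_subgroupOf.1 (QuotientGroup.eq.1 (hA.2.trans hB.2.symm)))
    refine (Finset.card_le_card hsub).trans ?_
    rw [Finset.card_erase_of_mem (show (1 : commutator N →* ℂˣ) ∈ F from
      Finset.mem_filter.2 ⟨Finset.mem_univ _, rfl⟩)]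
    refine Nat.sub_le_sub_right (Nat.le_sqrt.2 ?_) 1
    have e : F.card = Nat.card {B : commutator N →* ℂˣ // c.act B = twHom (commutator N) B (t A)} := by
      rw [Nat.card_eq_fintype_card, Fintype.card_subtype]
    rw [e]
    exact c.card_translated hL _ (ht A)
  have h1 := Finset.card_le_mul_card_image_of_maps_to (s := S) (f := κ)
    (t := (Finset.univ : Finset _)) (fun _ _ => Finset.mem_univ _) _ hfib
  rw [Finset.card_erase_of_mem (Finset.mem_univ _), Finset.card_univ, Finset.card_univ,
    ← Nat.card_eq_fintype_card, ← Nat.card_eq_fintype_card, mul_comm] at h1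
  exact h1

theorem linear_of_irr [Finite (commutator N →* ℂˣ)] [Group.IsSolvable (commutator N)]
    {θ : commutator N → ℂ} (hθ : IsIrrCharacter (commutator N) θ) : θ 1 = 1 := by
  classical
  by_contra h1
  have hne : commutator (commutator N) ≠ ⊥ := fun h => h1 (degree_eq_one_of_comm (fun a b =>
    commutatorElement_eq_one_iff_mul_comm.1 (Subgroup.mem_bot.1 (h ▸
      Subgroup.commutator_mem_commutator (Subgroup.mem_top a) (Subgroup.mem_top b)))) hθ)
  have hWne : commutator N ≠ ⊥ := fun h => by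
    haveI : Subsingleton (commutator N) := by rw [h]; infer_instance
    exact hne (Subgroup.eq_bot_of_subsingleton _)
  obtain ⟨L, hL⟩ := exists_hom_ne_one hWne
  haveI := c.isNilpotent hL
  obtain ⟨r, hr, hrp⟩ := c.exists_isPGroup hL
  haveI := Fact.mk hr
  obtain ⟨n, hn⟩ := hrp.exists_card_eq
  have hX : (commutator (commutator N)).index = r ^ n := by rw [← card_linear, hn]
  -- a commutator map onto the first central layer
  set Γ := ⁅commutator (commutator N), (⊤ : Subgroup (commutator N))⁆ with hΓ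
  haveI : Γ.Characteristic := by rw [hΓ]; infer_instance
  set W' := commutator (commutator N) with hW'
  set M0 := W'.map (QuotientGroup.mk' Γ) with hM0
  obtain ⟨w, hw⟩ : ∃ w, w ∉ W' := by
    by_contra h
    push Not at h
    haveI := (Subgroup.nontrivial_iff_ne_bot _).2 hWne
    exact (Group.IsSolvable.commutator_lt_top_of_nontrivial (G := commutator N)).ne
      (eq_top_iff.2 fun x _ => h x)
  have hcent : ∀ a ∈ W', ∀ v, QuotientGroup.mk' Γ a * QuotientGroup.mk' Γ v =
      QuotientGroup.mk' Γ v * QuotientGroup.mk' Γ a := fun a ha v =>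
    commutatorElement_eq_one_iff_mul_comm.1 (by
      rw [← map_commutatorElement]
      exact (QuotientGroup.eq_one_iff _).2
        (Subgroup.commutator_mem_commutator ha (Subgroup.mem_top v)))
  let φ : commutator N →* commutator N ⧸ Γ := MonoidHom.mk'
    (fun v => QuotientGroup.mk' Γ ⁅v, w⁆) fun a b => by
      have e : ⁅a * b, w⁆ = a * ⁅b, w⁆ * a⁻¹ * ⁅a, w⁆ := by simp only [commutatorElement_def]; group
      have hbw : ⁅b, w⁆ ∈ W' := Subgroup.commutator_mem_commutator (Subgroup.mem_top b) (Subgroup.mem_top w)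
      have haw : ⁅a, w⁆ ∈ W' := Subgroup.commutator_mem_commutator (Subgroup.mem_top a) (Subgroup.mem_top w)
      rw [e, map_mul, map_mul, map_mul, ← hcent _ hbw a, mul_assoc _ _ (QuotientGroup.mk' Γ a⁻¹),
        ← map_mul _ a, mul_inv_cancel, map_one, mul_one, hcent _ hbw]
  have hrange : φ.range = M0 := by
    refine le_antisymm ?_ ?_
    · rintro _ ⟨v, rfl⟩
      exact ⟨_, Subgroup.commutator_mem_commutator (Subgroup.mem_top v) (Subgroup.mem_top w), rfl⟩
    · rintro _ ⟨a, ha, rfl⟩
      haveI := Fintype.ofFinite (commutator N ⧸ Γ)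
      have hconj : IsConj (QuotientGroup.mk' Γ w) (QuotientGroup.mk' Γ (a * w)) := by
        rw [isConj_iff_forall_irr]
        intro χ
        have hirr := isIrrCharacter_inflate Γ χ.2
        by_cases hlin : (χ : commutator N ⧸ Γ → ℂ) 1 = 1
        · obtain ⟨f, hf⟩ := exists_hom_of_degree_one χ.2.isCharacter hlin
          rw [hf, map_mul]
          show (f _ : ℂ) = (f (_ * _) : ℂ)
          rw [map_mul, show f (QuotientGroup.mk' Γ a) = 1 from
            (Abelianization.commutator_subset_ker (f.comp (QuotientGroup.mk' Γ))) ha, one_mul]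
        · have hz : ∀ v, v ∉ W' → (χ : commutator N ⧸ Γ → ℂ) (QuotientGroup.mk' Γ v) = 0 := fun v hv =>
            c.apply_eq_zero hirr (by simpa using hlin) hv
          rw [hz w hw, hz (a * w) fun h => hw (by simpa using mul_mem (inv_mem ha) h)]
      obtain ⟨q, hq⟩ := isConj_iff.1 hconj
      obtain ⟨v, rfl⟩ := QuotientGroup.mk'_surjective Γ q
      refine ⟨v, ?_⟩
      show QuotientGroup.mk' Γ ⁅v, w⁆ = _
      rw [commutatorElement_def, map_mul, map_mul, map_mul, map_inv, map_inv, hq, map_mul,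
        mul_inv_cancel_right]
  have hker : W' ≤ φ.ker := fun a ha => (QuotientGroup.eq_one_iff _).2
    (Subgroup.commutator_mem_commutator ha (Subgroup.mem_top w))
  have hwk : w ∈ φ.ker := by
    show QuotientGroup.mk' Γ ⁅w, w⁆ = 1
    rw [commutatorElement_self, map_one]
  have hidx := Subgroup.relIndex_mul_index hker
  have hkM : φ.ker.index = Nat.card M0 := by rw [Subgroup.index_ker, hrange]
  obtain ⟨k, hkn, hk⟩ := (Nat.dvd_prime_pow hr).1 (hX ▸ Subgroup.index_dvd_of_le hker)
  have hM0' : M0 ≠ ⊥ := fun h => commutator_lt hne fun a ha => by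
    have : QuotientGroup.mk' Γ a ∈ M0 := ⟨a, ha, rfl⟩
    rw [h, Subgroup.mem_bot] at this
    exact (QuotientGroup.eq_one_iff _).1 this
  have hk0 : 0 < k := Nat.pos_of_ne_zero fun h => by
    rw [h, pow_zero, hkM] at hk
    exact hM0' (Subgroup.eq_bot_of_card_eq _ hk)
  have hkn' : k < n := lt_of_le_of_ne hkn fun h => by
    rw [hk, h, hX, Nat.mul_eq_right (pow_ne_zero _ hr.ne_zero)] at hidx
    exact hw (Subgroup.relIndex_eq_one.1 hidx hwk)
  refine false_of_divides hr.one_lt hk0 hkn' (hn ▸ c.card_range_dvd hL) ?_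
    (hn ▸ Nat.sqrt_le _) (hn ▸ c.card_le hL)
  rw [← hk, hkM, ← c.card_divHom_range]
  -- the action on the layer is free
  let ρ : N → (commutator N ⧸ Γ) →* (commutator N ⧸ Γ) := fun t =>
    QuotientGroup.map Γ Γ (MulAut.conjNormal t : MulAut (commutator N)).toMonoidHom
      (Subgroup.characteristic_iff_le_comap.1 inferInstance _)
  have hρmem : ∀ t, ∀ q ∈ M0, ρ t q ∈ M0 := by
    rintro t _ ⟨a, ha, rfl⟩
    exact ⟨_, Subgroup.characteristic_iff_le_comap.1 (inferInstance : W'.Characteristic)
      (MulAut.conjNormal t) ha, rfl⟩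
  refine card_dvd_of_free (1 : M0) (fun t q => ⟨ρ t q, hρmem t q q.2⟩) (fun q => ?_)
    (fun x y q => ?_) (fun t => Subtype.ext (map_one _)) fun t q hq e => ?_
  · obtain ⟨_, a, ha, rfl⟩ := q
    refine Subtype.ext ?_
    show QuotientGroup.mk' Γ (MulAut.conjNormal ((1 : c.divHom.range) : N) a) = QuotientGroup.mk' Γ a
    congr 1
    exact Subtype.ext (by simp)
  · obtain ⟨_, a, ha, rfl⟩ := q
    refine Subtype.ext ?_
    show QuotientGroup.mk' Γ (MulAut.conjNormal ((x * y : c.divHom.range) : N) a) =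
      QuotientGroup.mk' Γ (MulAut.conjNormal (x : N) (MulAut.conjNormal (y : N) a))
    rw [Subgroup.coe_mul, map_mul]
    rfl
  · obtain ⟨_, a, ha, rfl⟩ := q
    by_contra ht
    obtain ⟨hH, hm⟩ := c.divHom_moved hL t.2 fun h => ht (Subtype.ext h)
    set f := (MulAut.conjNormal (t : N) : MulAut (commutator N))
    have hfΓ : ∀ g ∈ Γ, f g ∈ Γ := fun g hg =>
      Subgroup.characteristic_iff_le_comap.1 inferInstance f hg
    have hinj : Function.Injective (fun g : commutator N => g⁻¹ * f g) := by
      intro x y hxy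
      have hxy' : x⁻¹ * f x = y⁻¹ * f y := hxy
      have h2 : f (y * x⁻¹) = y * x⁻¹ := by
        rw [map_mul, map_inv]
        calc f y * (f x)⁻¹ = y * (y⁻¹ * f y) * (x⁻¹ * f x)⁻¹ * x⁻¹ := by group
          _ = y * x⁻¹ := by rw [hxy']; group
      have h3 : (t : N) * ((y * x⁻¹ : commutator N) : N) * (t : N)⁻¹ = ((y * x⁻¹ : commutator N) : N) := by
        simpa [f, mul_assoc] using congrArg Subtype.val h2
      exact (mul_inv_eq_one.1 (Subtype.ext
        (c.hfpf _ hH hm _ (y * x⁻¹ : commutator N).2 (mul_inv_eq_iff_eq_mul.1 h3)))).symm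
    have hbij : Function.Bijective (fun g : Γ => (⟨(g : commutator N)⁻¹ * f g,
        mul_mem (inv_mem g.2) (hfΓ g g.2)⟩ : Γ)) :=
      Finite.injective_iff_bijective.mp fun x y h =>
        Subtype.ext (hinj (congrArg Subtype.val h))
    have hmem : a⁻¹ * f a ∈ Γ := by
      have e' : QuotientGroup.mk' Γ (f a) = QuotientGroup.mk' Γ a := congrArg Subtype.val e
      exact QuotientGroup.eq.1 e'.symm
    obtain ⟨g, hg⟩ := hbij.2 ⟨_, hmem⟩
    have : (g : commutator N) = a := hinj (congrArg Subtype.val hg)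
    exact hq (Subtype.ext ((QuotientGroup.eq_one_iff _).2 (this ▸ g.2)))

/-- All nonlinear degrees agree. -/
theorem degree_eq [Group.IsSolvable (commutator N)] (ψ φ : IrrCharacter N)
    (hψ : charDegree (ψ : N → ℂ) ≠ 1) (hφ : charDegree (φ : N → ℂ) ≠ 1) :
    charDegree (ψ : N → ℂ) = charDegree (φ : N → ℂ) := by
  classical
  haveI : Finite (commutator N →* ℂˣ) :=
    Nat.finite_of_card_ne_zero (by rw [card_linear]; exact Subgroup.index_ne_zero_of_finite)
  have key : ∀ η : IrrCharacter N, charDegree (η : N → ℂ) ≠ 1 →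
      ∃ M : commutator N →* ℂˣ, M ≠ 1 ∧
        classInner (fun w : commutator N => (η : N → ℂ) w) (lin M) ≠ 0 := by
    intro η hη
    obtain ⟨θ, hθ⟩ := exists_irr_constituent_res (commutator N) η.2
    obtain ⟨M, hM⟩ := exists_hom_of_degree_one θ.2.isCharacter (c.linear_of_irr θ.2)
    rw [hM] at hθ
    refine ⟨M, fun h => hη ?_, hθ⟩
    subst h
    have hres := clifford_invariant (commutator N) η.2 (isIrr_lin (commutator N) 1)
      (fun g => by rw [conjTwist_lin, twHom_one_hom]) hθ
    refine Cfsg.Lib.Block.charDegree_eq_of_apply_one ?_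
    rw [Nat.cast_one]
    refine degree_one_of_abelian_quotient (commutator N) (fun x y =>
      Subgroup.commutator_mem_commutator (Subgroup.mem_top x) (Subgroup.mem_top y)) η.2 fun w hw => ?_
    have e1 := congrFun hres ⟨w, hw⟩
    have e2 := congrFun hres 1
    simp only [Pi.smul_apply, lin, MonoidHom.one_apply, OneMemClass.coe_one] at e1 e2
    rw [e1, e2]
  obtain ⟨M, hM, hcM⟩ := key ψ hψ
  obtain ⟨K, hK, hcK⟩ := key φ hφ
  rw [c.degree_over_linear hM hψ hM hcM, c.degree_over_linear hM hφ hK hcK]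

end Cfsg.Lib.Char.NoDivide.Config
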