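import Cfsg.Agent.Lib.Char.NoDivide.Final
import Cfsg.Agent.Lib.Char.NoDivide.NormalComplement
import Cfsg.Agent.Lib.Invol.FixedCentralizer
import Cfsg.Agent.S4456
import Cfsg.Agent.Lib.Char.MinimalQuotient

/-!
# From a fixed point free section to the configuration
-/

set_option autoImplicit false
set_option linter.unusedSectionVars false
set_option linter.style.haveILetI false

namespace Cfsg.Lib.Char.NoDivide

open Cfsg Cfsg.Lib.Char
open scoped commutatorElement

universe u

/-- Invariant nonlinear characters vanish at elements moved modulo the derived subgroup. -/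
theorem apply_eq_zero_of_moved {N : Type u} [Group N] [Fintype N] (σ : MulAut N)
    (hinv : ∀ ψ : IrrCharacter N, charDegree (ψ : N → ℂ) ≠ 1 →
      ∀ n, (ψ : N → ℂ) (σ n) = (ψ : N → ℂ) n)
    {n : N} (hn : σ n * n⁻¹ ∉ commutator N) (ψ : IrrCharacter N)
    (hψ : charDegree (ψ : N → ℂ) ≠ 1) : (ψ : N → ℂ) n = 0 := by
  classical
  obtain ⟨f, hf⟩ : ∃ f : N →* ℂˣ, f (σ n * n⁻¹) ≠ 1 := by
    by_contra h
    push Not at h
    haveI : Fintype (Abelianization N) := Fintype.ofFinite _
    refine hn ?_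
    rw [← Abelianization.ker_of N, MonoidHom.mem_ker]
    exact eq_one_of_forall_hom (fun a b => mul_comm a b) fun g => h (g.comp Abelianization.of)
  have hψf := isIrrCharacter_mul_linear ψ.2 f
  have h1 := hinv ⟨_, hψf⟩ (by
    show charDegree ((ψ : N → ℂ) * fun g => (f g : ℂ)) ≠ 1
    simpa [charDegree] using hψ) n
  change (ψ : N → ℂ) (σ n) * (f (σ n) : ℂ) = (ψ : N → ℂ) n * (f n : ℂ) at h1
  rw [hinv ψ hψ n] at h1
  by_contra h0
  have h2 : f (σ n) = f n := Units.ext (mul_left_cancel₀ h0 h1)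
  exact hf (by rw [map_mul, map_inv, h2, mul_inv_cancel])

/-- The centralizer of a moved element has the order of the abelianization. -/
theorem card_centralizer_of_moved {N : Type u} [Group N] [Fintype N] (σ : MulAut N)
    (hinv : ∀ ψ : IrrCharacter N, charDegree (ψ : N → ℂ) ≠ 1 →
      ∀ n, (ψ : N → ℂ) (σ n) = (ψ : N → ℂ) n)
    {x : N} (hx : σ x * x⁻¹ ∉ commutator N) :
    Nat.card (Subgroup.centralizer ({x} : Set N)) * Nat.card (commutator N) = Nat.card N := by
  classical
  have hset : (fun g => g * x * g⁻¹) '' ((⊤ : Subgroup N) : Set N) =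
      (fun w => w * x) '' (commutator N : Set N) := by
    ext y
    constructor
    · rintro ⟨g, -, rfl⟩
      exact ⟨g * x * g⁻¹ * x⁻¹, Subgroup.commutator_mem_commutator (Subgroup.mem_top g)
        (Subgroup.mem_top x), by group⟩
    · rintro ⟨w, hw, rfl⟩
      have hc : IsConj x (w * x) := by
        rw [isConj_iff_forall_irr]
        intro χ
        by_cases h : charDegree (χ : N → ℂ) = 1
        · obtain ⟨f, hf⟩ := exists_hom_of_degree_one χ.2.isCharacter
            (by rw [χ.2.apply_one_eq_charDegree, h, Nat.cast_one])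
          have hfw : f w = 1 := Abelianization.commutator_subset_ker f hw
          rw [hf]
          show (f x : ℂ) = (f (w * x) : ℂ)
          rw [map_mul, hfw, one_mul]
        · rw [apply_eq_zero_of_moved σ hinv hx χ h, apply_eq_zero_of_moved σ hinv ?_ χ h]
          intro h2
          apply hx
          have hσw : σ w ∈ commutator N := by
            have : (commutator N).map σ.toMonoidHom ≤ commutator N := by
              rw [commutator_def, Subgroup.map_commutator]
              exact Subgroup.commutator_mono le_top le_top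
            exact this ⟨w, hw, rfl⟩
          rw [show σ x * x⁻¹ = (σ w)⁻¹ * ((σ (w * x) * (w * x)⁻¹) * w) by rw [map_mul]; group]
          exact mul_mem (inv_mem hσw) (mul_mem h2 hw)
      obtain ⟨g, hg⟩ := isConj_iff.1 hc
      exact ⟨g, Subgroup.mem_top g, hg⟩
  have h1 := Cfsg.Lib.Invol.FixedCentralizer.card_conj_image x (⊤ : Subgroup N)
  rw [hset, Subgroup.relIndex_top_right] at h1
  have h2 : Nat.card ((fun w => w * x) '' (commutator N : Set N)) = Nat.card (commutator N) :=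
    Nat.card_image_of_injective (mul_left_injective x) _
  rw [h2] at h1
  rw [h1]
  exact Subgroup.card_mul_index _

/-- All nonlinear degrees of the middle term of a fixed point free section agree. -/
theorem degree_eq_of_section {G : Type u} [Group G] [Fintype G] [Group.IsSolvable G] {q : ℕ}
    {K N : Subgroup G} (h : FixedPointFreeCase q K N) [Fintype N]
    (hinv : ∀ ψ : IrrCharacter N, charDegree (ψ : N → ℂ) ≠ 1 → ∀ (g : G) (n : N),
      conjTwist N (hN := h.2.1) (ψ : N → ℂ) g n = (ψ : N → ℂ) n)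
    (hq : ∀ ψ : IrrCharacter N, charDegree (ψ : N → ℂ) ≠ 1 → q ∣ charDegree (ψ : N → ℂ))
    (hcop : ∀ ψ : IrrCharacter N, charDegree (ψ : N → ℂ) ≠ 1 →
      N.index.Coprime (charDegree (ψ : N → ℂ)))
    (hnd : ∀ ψ φ : IrrCharacter N, charDegree (ψ : N → ℂ) ≠ 1 → charDegree (φ : N → ℂ) ≠ 1 →
      charDegree (ψ : N → ℂ) ∣ charDegree (φ : N → ℂ) →
        charDegree (ψ : N → ℂ) = charDegree (φ : N → ℂ))
    (ψ φ : IrrCharacter N) (hψ : charDegree (ψ : N → ℂ) ≠ 1) (hφ : charDegree (φ : N → ℂ) ≠ 1) :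
    charDegree (ψ : N → ℂ) = charDegree (φ : N → ℂ) := by
  classical
  obtain ⟨hK, hN, hKN, hqp, ⟨kq, hkq⟩, hNtop, hab, hfpf, l, hlK, hl⟩ := h
  haveI := hK
  haveI := hN
  haveI : Fact q.Prime := ⟨hqp⟩
  obtain ⟨C, hCn, hCcop, k, hCidx⟩ := Cfsg.Agent.S4456.result (G := N) q hqp hq
  haveI := hCn
  rcases degree_eq_or_commutator_le hqp C hCcop hCidx hnd with hdone | hWC
  · exact hdone ψ φ hψ hφ
  -- a Sylow subgroup and an element of prime order modulo `N` normalising it
  obtain ⟨P⟩ : Nonempty (Sylow q N) := inferInstance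
  have hfr := Sylow.normalizer_sup_eq_top P
  obtain ⟨g₀, hg₀⟩ : ∃ g : G, g ∉ N := by
    by_contra hh
    push Not at hh
    exact hNtop (eq_top_iff.2 fun x _ => hh x)
  obtain ⟨b₀, hb₀, n₀, hn₀, rfl⟩ := Subgroup.mem_sup_of_normal_right.1
    (hfr ▸ Subgroup.mem_top g₀ : g₀ ∈ Subgroup.normalizer (((P : Subgroup N).map N.subtype : Subgroup G) : Set G) ⊔ N)
  have hb₀N : b₀ ∉ N := fun hb => hg₀ (mul_mem hb hn₀)
  obtain ⟨b, hbP, hbN, ℓ, hℓ, hbℓ⟩ : ∃ b ∈ Subgroup.normalizer (((P : Subgroup N).map N.subtype : Subgroup G) : Set G),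
      b ∉ N ∧ ∃ ℓ, ℓ.Prime ∧ b ^ ℓ ∈ N := by
    set o := orderOf (QuotientGroup.mk' N b₀) with ho
    have ho1 : o ≠ 1 := fun e => hb₀N ((QuotientGroup.eq_one_iff b₀).1 (orderOf_eq_one_iff.1 e))
    obtain ⟨m, hm⟩ := Nat.minFac_dvd o
    refine ⟨b₀ ^ m, pow_mem hb₀ m, ?_, o.minFac, Nat.minFac_prime ho1, ?_⟩
    · intro e
      have hd : o ∣ m := orderOf_dvd_of_pow_eq_one (by
        rw [← map_pow]; exact (QuotientGroup.eq_one_iff _).2 e)
      have ho0 : 0 < o := orderOf_pos _
      have hm0 : 0 < m := Nat.pos_of_ne_zero fun h0 => by rw [h0, mul_zero] at hm; omega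
      have hle := Nat.le_of_dvd hm0 hd
      have h2 := (Nat.minFac_prime ho1).two_le
      nlinarith
    · rw [← pow_mul, ← QuotientGroup.eq_one_iff, mul_comm, ← hm]
      show QuotientGroup.mk' N (b₀ ^ o) = 1
      rw [map_pow, ho, pow_orderOf_eq_one]
  set σ : MulAut N := MulAut.conjNormal b with hσ
  have hσapp : ∀ n : N, (σ n : G) = b * n * b⁻¹ := fun n => by rw [hσ, MulAut.conjNormal_apply]
  have hinvσ : ∀ η : IrrCharacter N, charDegree (η : N → ℂ) ≠ 1 →
      ∀ n, (η : N → ℂ) (σ n) = (η : N → ℂ) n := fun η hη n => by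
    rw [← hinv η hη b n, conjTwist_apply]
    exact congrArg _ (Subtype.ext (hσapp n))
  -- the section is a quotient by a subgroup containing `C`
  haveI : (K.subgroupOf N).Normal := hK.subgroupOf N
  have hlC : ∀ y ∈ C, l y = 1 := by
    intro y hy
    have h1 : l y ^ (q ^ kq) = 1 := by
      rw [← map_pow]
      exact hlK _ (Subgroup.mem_subgroupOf.1 (hkq ▸ Subgroup.pow_index_mem (K.subgroupOf N) y))
    have h2 : l y ^ Nat.card C = 1 := by
      rw [← map_pow, show y ^ Nat.card C = 1 from congrArg Subtype.val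
        (pow_card_eq_one' (G := C) (x := ⟨y, hy⟩)), map_one]
    exact RelDeg.eq_one_of_pow_coprime h1 h2 (Nat.Coprime.pow_left kq hCcop.symm)
  have hCP : ∀ n : N, ∃ y ∈ C, ∃ p ∈ (P : Subgroup N), n = y * p := by
    have hsup : C ⊔ (P : Subgroup N) = ⊤ := by
      rw [← Subgroup.index_eq_one, ← Nat.dvd_one]
      have h1 := Subgroup.index_dvd_of_le (le_sup_left : C ≤ C ⊔ (P : Subgroup N))
      have h2 := Subgroup.index_dvd_of_le (le_sup_right : (P : Subgroup N) ≤ C ⊔ (P : Subgroup N))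
      rw [hCidx] at h1
      have hcp : Nat.Coprime (q ^ k) (P : Subgroup N).index :=
        Nat.Coprime.pow_left k ((hqp.coprime_iff_not_dvd).2 P.not_dvd_index)
      rw [← hcp.gcd_eq_one]
      exact Nat.dvd_gcd h1 h2
    intro n
    obtain ⟨y, hy, p, hp, rfl⟩ := Subgroup.mem_sup_of_normal_left.1 (hsup ▸ Subgroup.mem_top n : n ∈ C ⊔ (P : Subgroup N))
    exact ⟨y, hy, p, hp, rfl⟩
  have hlσ : ∀ n : N, (σ n * n⁻¹ ∈ commutator N) → l (σ n) = l n := fun n hn => by
    have e : l (σ n * n⁻¹) = 1 := Abelianization.commutator_subset_ker l hn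
    rwa [map_mul, map_inv, mul_inv_eq_one] at e
  have hσC : ∀ y ∈ C, σ y ∈ C := by
    intro y hy
    have h1 : (QuotientGroup.mk' C (σ y)) ^ Nat.card C = 1 := by
      rw [← map_pow, ← map_pow, show y ^ Nat.card C = 1 from congrArg Subtype.val
        (pow_card_eq_one' (G := C) (x := ⟨y, hy⟩)), map_one, map_one]
    have h2 : (QuotientGroup.mk' C (σ y)) ^ (q ^ k) = 1 := by
      rw [← map_pow, ← hCidx]
      exact (QuotientGroup.eq_one_iff _).2 (Subgroup.pow_index_mem C _)
    exact (QuotientGroup.eq_one_iff _).1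
      (RelDeg.eq_one_of_pow_coprime h1 h2 (Nat.Coprime.pow_right k hCcop))
  obtain ⟨x, hxP, hx⟩ : ∃ x ∈ (P : Subgroup N), σ x * x⁻¹ ∉ commutator N := by
    by_contra hh
    push Not at hh
    refine hl (MonoidHom.ext fun n => ?_)
    obtain ⟨a, ha, haK⟩ := hfpf b hbN n n.2
    have hfix : ∀ m : N, l (σ m) = l m := by
      intro m
      obtain ⟨y, hy, p, hp, rfl⟩ := hCP m
      rw [map_mul, map_mul, map_mul, hlC _ (hσC y hy), hlC y hy, hlσ p (hh p hp)]
    have h1 := hlK (n⁻¹ * (σ ⟨a, ha⟩ * (⟨a, ha⟩ : N)⁻¹)) (by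
      simp only [Subgroup.coe_mul, InvMemClass.coe_inv, hσapp]
      exact haK)
    rw [map_mul, map_mul, map_inv, map_inv, hfix, mul_inv_cancel, mul_one, inv_eq_one] at h1
    rw [h1, MonoidHom.one_apply]
  -- the centralizer of `x` is the complement
  have hPc : ∀ u ∈ (P : Subgroup N), ∀ v ∈ (P : Subgroup N), u * v = v * u := by
    intro u hu v hv
    have h1 : ⁅u, v⁆ ∈ C ⊓ (P : Subgroup N) := Subgroup.mem_inf.2
      ⟨hWC (Subgroup.commutator_mem_commutator (Subgroup.mem_top u) (Subgroup.mem_top v)), by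
        rw [commutatorElement_def]
        exact mul_mem (mul_mem (mul_mem hu hv) (inv_mem hu)) (inv_mem hv)⟩
    obtain ⟨j, hj⟩ := P.2.exists_card_eq
    rw [Subgroup.inf_eq_bot_of_coprime (hj ▸ Nat.Coprime.pow_right j hCcop), Subgroup.mem_bot] at h1
    exact commutatorElement_eq_one_iff_mul_comm.1 h1
  have hcopCP : (Nat.card (P : Subgroup N)).Coprime (Nat.card C) := by
    obtain ⟨j, hj⟩ := P.2.exists_card_eq
    rw [hj]
    exact Nat.Coprime.pow_left j hCcop.symm
  set H := Subgroup.centralizer ({x} : Set N) with hH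
  set B := C ⊓ Subgroup.centralizer ((P : Subgroup N) : Set N) with hB
  have hPH : (P : Subgroup N) ≤ H := fun p hp =>
    Subgroup.mem_centralizer_singleton_iff.2 (hPc p hp x hxP)
  have hBH : B ≤ H := fun y hy => Subgroup.mem_centralizer_singleton_iff.2
    (Subgroup.mem_centralizer_iff.1 hy.2 x hxP).symm
  have hCPn : (P : Subgroup N) ≤ Subgroup.normalizer (C : Set N) := by
    rw [Subgroup.normalizer_eq_top]; exact le_top
  have hsolP : Group.IsSolvable (P : Subgroup N) ∨ Group.IsSolvable C := by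
    haveI : Group.IsSolvable N := inferInstance
    exact Or.inr inferInstance
  -- cardinalities
  have hcardN : Nat.card C * Nat.card (P : Subgroup N) = Nat.card N := by
    rw [← Cfsg.Lib.Coprime.card_sup_of_disjoint hCPn (disjoint_iff.2
      (Subgroup.inf_eq_bot_of_coprime hcopCP.symm)),
      show C ⊔ (P : Subgroup N) = ⊤ from eq_top_iff.2 fun n _ => by
        obtain ⟨y, hy, p, hp, rfl⟩ := hCP n
        exact Subgroup.mul_mem_sup hy hp, Subgroup.card_top]
  have hcardH : Nat.card ↥(C ⊓ H) * Nat.card (P : Subgroup N) = Nat.card H := by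
    have hn : (P : Subgroup N) ≤ Subgroup.normalizer ((C ⊓ H : Subgroup N) : Set N) :=
      (le_inf hCPn (hPH.trans Subgroup.le_normalizer)).trans
        Subgroup.inf_normalizer_le_normalizer_inf
    rw [← Cfsg.Lib.Coprime.card_sup_of_disjoint hn (disjoint_iff.2 (Subgroup.inf_eq_bot_of_coprime
      (Nat.Coprime.coprime_dvd_left (Subgroup.card_dvd_of_le inf_le_left) hcopCP.symm)))]
    refine congrArg (fun S : Subgroup N => Nat.card S) ?_
    refine le_antisymm (sup_le inf_le_right hPH) fun n hn => ?_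
    obtain ⟨y, hy, p, hp, rfl⟩ := hCP n
    refine Subgroup.mul_mem_sup ⟨hy, ?_⟩ hp
    simpa using mul_mem hn (inv_mem (hPH hp))
  have hCW : Nat.card C = Nat.card ↥(C ⊓ H) * Nat.card (commutator N) := by
    have e := card_centralizer_of_moved σ hinvσ hx
    rw [← hH, ← hcardH, ← hcardN] at e
    refine Nat.eq_of_mul_eq_mul_right (Nat.card_pos (α := (P : Subgroup N))) ?_
    rw [← e]
    ring
  have hW0 : ⁅C, (P : Subgroup N)⁆ ≤ commutator N := Subgroup.commutator_mono le_top le_top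
  let m : commutator N × B → C := fun z => ⟨z.1 * z.2, mul_mem (hWC z.1.2) z.2.2.1⟩
  have hmsurj : Function.Surjective m := by
    rintro ⟨y, hy⟩
    obtain ⟨n, hn, z, hz, rfl⟩ := Cfsg.Lib.Coprime.le_commutator_sup_centralizer hCPn hcopCP hsolP hy
    exact ⟨⟨⟨n, hW0 hn⟩, ⟨z, hz⟩⟩, rfl⟩
  have hBle : B ≤ C ⊓ H := le_inf inf_le_left hBH
  have hBeq : B = C ⊓ H := by
    refine Subgroup.eq_of_le_of_card_ge hBle ?_
    have h1 := Nat.card_le_card_of_surjective m hmsurj
    rw [Nat.card_prod, hCW, mul_comm] at h1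
    exact Nat.le_of_mul_le_mul_left h1 Nat.card_pos
  have hminj : Function.Injective m := by
    refine (hmsurj.bijective_of_nat_card_le (le_of_eq ?_)).1
    rw [Nat.card_prod, hCW, hBeq, mul_comm]
  have hinf : H ⊓ commutator N = ⊥ := by
    rw [eq_bot_iff]
    intro y hy
    have hyB : y ∈ B := hBeq ▸ Subgroup.mem_inf.2 ⟨hWC hy.2, hy.1⟩
    have e := hminj (a₁ := (⟨y, hy.2⟩, 1)) (a₂ := (1, ⟨y, hyB⟩)) (Subtype.ext (by simp [m]))
    exact Subgroup.mem_bot.2 (congrArg (fun z => (z.1 : N)) e)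
  have hcomm : ∀ u ∈ H, ∀ v ∈ H, u * v = v * u := fun u hu v hv => by
    have h1 : ⁅u, v⁆ ∈ H ⊓ commutator N := Subgroup.mem_inf.2 ⟨by
      rw [commutatorElement_def]
      exact mul_mem (mul_mem (mul_mem hu hv) (inv_mem hu)) (inv_mem hv),
      Subgroup.commutator_mem_commutator (Subgroup.mem_top u) (Subgroup.mem_top v)⟩
    rw [hinf, Subgroup.mem_bot] at h1
    exact commutatorElement_eq_one_iff_mul_comm.1 h1
  have hsup : commutator N ⊔ H = ⊤ := eq_top_iff.2 fun n _ => by
    obtain ⟨y, hy, p, hp, rfl⟩ := hCP n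
    obtain ⟨w, hw, z, hz, rfl⟩ := Cfsg.Lib.Coprime.le_commutator_sup_centralizer hCPn hcopCP hsolP hy
    rw [mul_assoc]
    exact Subgroup.mul_mem_sup (hW0 hw) (mul_mem (hBH hz) (hPH hp))
  have hσP : ∀ p ∈ (P : Subgroup N), σ.symm p ∈ (P : Subgroup N) := by
    intro p hp
    have hbinv := inv_mem hbP
    have h1 := (Subgroup.mem_normalizer_iff.1 hbinv (p : G)).1 ⟨p, hp, rfl⟩
    obtain ⟨p', hp', e⟩ := h1
    have e2 : σ p' = p := Subtype.ext (by
      rw [hσapp, show (p' : G) = b⁻¹ * p * b⁻¹⁻¹ from e]; group)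
    rwa [← e2, MulEquiv.symm_apply_apply]
  have hσH : ∀ u ∈ H, σ u ∈ H := by
    intro u hu
    refine Subgroup.mem_centralizer_singleton_iff.2 ?_
    have hxs := hσP x hxP
    have e := congrArg σ (hcomm u hu _ (hPH hxs))
    rwa [map_mul, map_mul, MulEquiv.apply_symm_apply] at e
  have hfpfH : ∀ u ∈ H, σ u ≠ u → ∀ w ∈ commutator N, u * w = w * u → w = 1 := by
    intro u hu hm w hw hc
    have hd : σ u * u⁻¹ ∉ commutator N := fun e => hm (mul_inv_eq_one.1 (Subgroup.mem_bot.1
      (hinf ▸ Subgroup.mem_inf.2 ⟨mul_mem (hσH u hu) (inv_mem hu), e⟩)))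
    have hle : H ≤ Subgroup.centralizer ({u} : Set N) := fun v hv =>
      Subgroup.mem_centralizer_singleton_iff.2 (hcomm v hv u hu)
    have e1 := card_centralizer_of_moved σ hinvσ hd
    have e2 := card_centralizer_of_moved σ hinvσ hx
    rw [← e2] at e1
    have heq := Subgroup.eq_of_le_of_card_ge hle
      (le_of_eq (Nat.eq_of_mul_eq_mul_right Nat.card_pos e1))
    have hwH : w ∈ H := heq ▸ Subgroup.mem_centralizer_singleton_iff.2 hc.symm
    exact Subgroup.mem_bot.1 (hinf ▸ Subgroup.mem_inf.2 ⟨hwH, hw⟩)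
  set z : N := ⟨b ^ ℓ, hbℓ⟩ with hz
  have hpow : σ ^ ℓ = MulAut.conj z := by
    refine MulEquiv.ext fun n => Subtype.ext ?_
    rw [hσ, ← map_pow, MulAut.conjNormal_apply, MulAut.conj_apply]
    rfl
  have hzH : z ∈ H := by
    have hz' : ∀ u ∈ H, z * u * z⁻¹ ∈ H := by
      intro u hu
      have : ∀ j : ℕ, (σ ^ j) u ∈ H := fun j => by
        induction j with
        | zero => exact hu
        | succ j ih => rw [pow_succ', MulAut.mul_apply]; exact hσH _ ih
      have h2 := this ℓ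
      rwa [hpow, MulAut.conj_apply] at h2
    obtain ⟨w, hw, u, hu, e⟩ := Subgroup.mem_sup_of_normal_left.1
      (hsup ▸ Subgroup.mem_top z : z ∈ commutator N ⊔ H)
    have hxH : x ∈ H := hPH hxP
    have h1 := hz' x hxH
    rw [← e, mul_inv_rev, show w * u * x * (u⁻¹ * w⁻¹) = w * (u * x * u⁻¹) * w⁻¹ by group,
      hcomm u hu x hxH, mul_inv_cancel_right] at h1
    have h2 : w * x * w⁻¹ * x⁻¹ ∈ H ⊓ commutator N := Subgroup.mem_inf.2 ⟨mul_mem h1 (inv_mem hxH),
      Subgroup.commutator_mem_commutator (Subgroup.mem_top w) (Subgroup.mem_top x)⟩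
    rw [hinf, Subgroup.mem_bot, mul_inv_eq_one] at h2
    have hwH : w ∈ H := Subgroup.mem_centralizer_singleton_iff.2 (mul_inv_eq_iff_eq_mul.1 h2)
    rw [← e]
    exact mul_mem hwH hu
  have hℓidx : ℓ ∣ N.index := by
    rw [Subgroup.index_eq_card]
    have ho : orderOf (QuotientGroup.mk' N b) = ℓ := by
      haveI := Fact.mk hℓ
      exact orderOf_eq_prime (by rw [← map_pow]; exact (QuotientGroup.eq_one_iff _).2 hbℓ)
        fun e => hbN ((QuotientGroup.eq_one_iff _).1 e)
    exact ho ▸ orderOf_dvd_natCard _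
  let c : Config N :=
    { H := H, σ := σ, ℓ := ℓ, hℓ := hℓ, z := z, hz := hzH, hpow := hpow, hσH := hσH, hcomm := hcomm
      hinf := hinf, hsup := hsup
      hmov := ⟨x, hPH hxP, fun e => hx (by rw [e, mul_inv_cancel]; exact one_mem _)⟩
      hfpf := hfpfH, hinv := hinvσ
      hcop := fun η hη => Nat.Coprime.coprime_dvd_left hℓidx (hcop η hη)
      hnd := hnd }
  haveI : Fintype (commutator N) := Fintype.ofFinite _
  exact c.degree_eq ψ φ hψ hφ

end Cfsg.Lib.Char.NoDivide
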