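import Cfsg.Agent.Lib.Char.NoDivide.Uniform

/-!
# Nonlinear characters of the derived subgroup vanish off its derived subgroup
-/

set_option autoImplicit false
set_option linter.unusedSectionVars false
set_option linter.style.haveILetI false

namespace Cfsg.Lib.Char.NoDivide.Config

open Cfsg Cfsg.Lib.Char Cfsg.Lib.Char.RelDeg

universe u

variable {N : Type u} [Group N] [Fintype N] [Fintype (commutator N)] (c : Config N)

include c

/-- A character over a nontrivial linear one has the common degree. -/
theorem degree_over_linear {L : commutator N →* ℂˣ} (hL : L ≠ 1) {ψ : IrrCharacter N}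
    (hψ : charDegree (ψ : N → ℂ) ≠ 1) {M : commutator N →* ℂˣ} (hM : M ≠ 1)
    (hc : classInner (fun w : commutator N => (ψ : N → ℂ) w) (lin M) ≠ 0) :
    charDegree (ψ : N → ℂ) = (stab L).index := by
  obtain ⟨e, -, hdeg, -⟩ := over_data (commutator N) (isIrr_lin _ M) (f := 1) (by simp [lin]) hc
  rw [mul_one, show inertia (commutator N) (lin M) = stab L from c.stab_eq hM hL] at hdeg
  obtain ⟨φ, hφ, hφ1, -⟩ := c.exists_degree_eq hL
  rw [← c.hnd φ ψ hφ1 hψ (by rw [hφ, hdeg]; exact dvd_mul_left _ _), hφ]

omit c in
theorem normal_of_commutator_le {S : Subgroup N} (h : commutator N ≤ S) : S.Normal := ⟨fun x hx g => by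
  have hgx : g * x * g⁻¹ * x⁻¹ ∈ S := h (Subgroup.commutator_mem_commutator (Subgroup.mem_top g)
    (Subgroup.mem_top x))
  simpa using mul_mem hgx hx⟩

/-- The inertia group of a nonlinear character meets the complement outside the common group. -/
theorem exists_inertia_not_stab {L : commutator N →* ℂˣ} (hL : L ≠ 1) {θ : commutator N → ℂ}
    (hθ : IsIrrCharacter (commutator N) θ) (h1 : θ 1 ≠ 1) :
    ∃ h ∈ c.H, conjTwist (commutator N) θ h = θ ∧ h ∉ stab L := by
  have hW : commutator N ≤ inertia (commutator N) θ := le_inertia _ hθ.isClassFunction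
  by_contra hno
  push Not at hno
  have hle : inertia (commutator N) θ ≤ stab L := by
    intro g hg
    obtain ⟨w, hw, h, hh, rfl⟩ := c.exists_mul g
    refine (c.mem_stab_iff hw).2 (hno h hh ((mem_inertia _).1 ?_))
    have := mul_mem (inv_mem (hW hw)) hg
    rwa [inv_mul_cancel_left] at this
  obtain ⟨ψ, hψc⟩ := RelDeg.exists_over (commutator N) hθ
  obtain ⟨d, hd0, hd⟩ := hθ.exists_degree
  obtain ⟨e, he, hdeg, -⟩ := over_data (commutator N) hθ hd hψc
  obtain ⟨φ, hφ, hφ1, -⟩ := c.exists_degree_eq hL
  have hd2 : 1 < d := lt_of_le_of_ne hd0 fun h => h1 (by rw [hd, ← h, Nat.cast_one])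
  have hdvd : (stab L).index ∣ (inertia (commutator N) θ).index := Subgroup.index_dvd_of_le hle
  have hi0 : 0 < (stab L).index := Nat.pos_of_ne_zero Subgroup.index_ne_zero_of_finite
  have hi1 := Nat.le_of_dvd (Nat.pos_of_ne_zero Subgroup.index_ne_zero_of_finite) hdvd
  have hlt : (stab L).index < charDegree (ψ : N → ℂ) := by
    rw [hdeg]
    calc (stab L).index < (stab L).index * d := lt_mul_of_one_lt_right hi0 hd2
      _ ≤ e * (inertia (commutator N) θ).index * d :=
        Nat.mul_le_mul_right _ (hi1.trans (Nat.le_mul_of_pos_left _ he))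
  have := c.hnd φ ψ hφ1 (by omega) (by
    rw [hφ, hdeg]
    exact (hdvd.trans (dvd_mul_left _ e)).mul_right d)
  omega

omit c in
theorem conjTwist_mul_lin (θ : commutator N → ℂ) (M : commutator N →* ℂˣ) (g : N) :
    conjTwist (commutator N) (θ * lin M) g =
      conjTwist (commutator N) θ g * lin (twHom (commutator N) M g) := by
  rw [← conjTwist_lin]
  rfl

/-- A nonlinear character is unchanged by all linear twists. -/
theorem mul_lin_eq [Finite (commutator N →* ℂˣ)] {θ : commutator N → ℂ}
    (hθ : IsIrrCharacter (commutator N) θ) (h1 : θ 1 ≠ 1) (M : commutator N →* ℂˣ) :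
    θ * lin M = θ := by
  classical
  rcases eq_or_ne M 1 with rfl | hM
  · funext w; simp [lin]
  obtain ⟨b, hb, hbθ, hbJ⟩ := c.exists_inertia_not_stab hM hθ h1
  obtain ⟨b', hb', hbθ', hbJ'⟩ := c.exists_inertia_not_stab hM (isIrrCharacter_mul_linear hθ M)
    (θ := θ * lin M) (by simpa [lin] using h1)
  rw [conjTwist_mul_lin] at hbθ'
  let T : Subgroup (commutator N →* ℂˣ) :=
    { carrier := {K | θ * lin K = θ}
      one_mem' := by show θ * lin 1 = θ; funext w; simp [lin]
      mul_mem' := fun {A B} (hA : θ * lin A = θ) (hB : θ * lin B = θ) => by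
        show θ * lin (A * B) = θ
        funext w
        have e1 := congrFun hA w
        have e2 := congrFun hB w
        simp only [Pi.mul_apply, lin, MonoidHom.mul_apply, Units.val_mul] at e1 e2 ⊢
        rw [← mul_assoc, e1, e2]
      inv_mem' := fun {A} (hA : θ * lin A = θ) => by
        show θ * lin A⁻¹ = θ
        funext w
        have e1 := congrFun hA w
        simp only [Pi.mul_apply, lin, MonoidHom.inv_apply, Units.val_inv_eq_inv_val] at e1 ⊢
        conv_lhs => rw [← e1, mul_assoc, mul_inv_cancel₀ (Units.ne_zero _), mul_one] }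
  -- for an element fixing `θ` and no linear character, `T` contains every character that it
  -- moves into `T`
  have hpre : ∀ d : N, d ∈ c.H → d ∉ stab M → conjTwist (commutator N) θ d = θ →
      ∀ K, twHom (commutator N) K d * K⁻¹ ∈ T → K ∈ T := by
    intro d _ hdJ hdθ K hK
    have hstab : ∀ A ∈ T, twHom (commutator N) A d ∈ T := fun A (hA : θ * lin A = θ) => by
      show θ * lin (twHom (commutator N) A d) = θ
      conv_lhs => rw [← hdθ, ← conjTwist_mul_lin, hA, hdθ]
    let F : (commutator N →* ℂˣ) → (commutator N →* ℂˣ) := fun A => twHom (commutator N) A d * A⁻¹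
    have hinj : Function.Injective F := by
      intro A B h
      have e : twHom (commutator N) (A * B⁻¹) d = A * B⁻¹ := by
        refine MonoidHom.ext fun w => ?_
        have := DFunLike.congr_fun h w
        simp only [F, MonoidHom.mul_apply, MonoidHom.inv_apply] at this
        show twHom (commutator N) A d w * (twHom (commutator N) B d w)⁻¹ = A w * (B w)⁻¹
        rw [mul_inv_eq_iff_eq_mul, mul_comm _ ((twHom (commutator N) B d) w), ← mul_assoc]
        rw [mul_inv_eq_iff_eq_mul, mul_right_comm] at this
        rw [this]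
      by_contra hne
      have hK : A * B⁻¹ ≠ 1 := fun h0 => hne (RelDeg.hom_eq_of_mul_inv h0)
      exact hdJ (c.stab_eq hK hM ▸ mem_stab.2 e)
    have hbij : Function.Bijective (fun A : T => (⟨F A, mul_mem (hstab A A.2) (inv_mem A.2)⟩ : T)) :=
      Finite.injective_iff_bijective.mp fun A B h => Subtype.ext (hinj (congrArg Subtype.val h))
    obtain ⟨A, hA⟩ := hbij.2 ⟨_, hK⟩
    exact (hinj (congrArg Subtype.val hA)) ▸ A.2
  set ν : commutator N →* ℂˣ := M * (twHom (commutator N) M b')⁻¹
  have hν : conjTwist (commutator N) θ b' = θ * lin ν := funext fun w => by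
    have e := congrFun hbθ' w
    simp only [Pi.mul_apply, lin] at e
    simp only [ν, Pi.mul_apply, lin, MonoidHom.mul_apply, MonoidHom.inv_apply, Units.val_mul,
      Units.val_inv_eq_inv_val]
    rw [← mul_assoc, ← e, mul_inv_cancel_right₀ (Units.ne_zero _)]
  have hνT : ν ∈ T := by
    refine hpre b hb hbJ hbθ ν ?_
    show θ * lin (twHom (commutator N) ν b * ν⁻¹) = θ
    have e : conjTwist (commutator N) (conjTwist (commutator N) θ b') b =
        conjTwist (commutator N) (conjTwist (commutator N) θ b) b' := by
      rw [conjTwist_conjTwist, conjTwist_conjTwist, c.hcomm b' hb' b hb]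
    rw [hbθ, hν, conjTwist_mul_lin, hbθ] at e
    funext w
    have := congrFun e w
    simp only [Pi.mul_apply, lin, MonoidHom.mul_apply, MonoidHom.inv_apply, Units.val_mul,
      Units.val_inv_eq_inv_val] at this ⊢
    rw [← mul_assoc, this, mul_inv_cancel_right₀ (Units.ne_zero _)]
  have hb'θ : conjTwist (commutator N) θ b' = θ := hν.trans hνT
  refine hpre b' hb' hbJ' hb'θ M ?_
  show θ * lin (twHom (commutator N) M b' * M⁻¹) = θ
  rw [hb'θ] at hbθ'
  funext w
  have := congrFun hbθ' w
  simp only [Pi.mul_apply, lin, MonoidHom.mul_apply, MonoidHom.inv_apply, Units.val_mul,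
    Units.val_inv_eq_inv_val] at this ⊢
  rw [← mul_assoc, this, mul_inv_cancel_right₀ (Units.ne_zero _)]

/-- A nonlinear character vanishes off the second derived subgroup. -/
theorem apply_eq_zero [Finite (commutator N →* ℂˣ)] {θ : commutator N → ℂ}
    (hθ : IsIrrCharacter (commutator N) θ) (h1 : θ 1 ≠ 1) {w : commutator N}
    (hw : w ∉ commutator (commutator N)) : θ w = 0 := by
  by_contra h0
  haveI : Fintype (Abelianization (commutator N)) := Fintype.ofFinite _
  refine hw ?_
  rw [← Abelianization.ker_of (commutator N), MonoidHom.mem_ker]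
  refine eq_one_of_forall_hom (fun a b => mul_comm a b) fun f => Units.ext ?_
  have e := congrFun (c.mul_lin_eq hθ h1 (f.comp Abelianization.of)) w
  simp only [Pi.mul_apply, lin] at e
  exact mul_left_cancel₀ h0 (e.trans (mul_one _).symm)

end Cfsg.Lib.Char.NoDivide.Config
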