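import Cfsg.Agent.Lib.Char.NoDivide.Config
import Cfsg.Agent.Lib.Thompson.FixedPointFree

/-!
# All nontrivial linear characters have the same inertia group
-/

set_option autoImplicit false
set_option linter.unusedSectionVars false
set_option linter.style.haveILetI false

namespace Cfsg.Lib.Char.NoDivide.Config

open Cfsg Cfsg.Lib.Char Cfsg.Lib.Char.RelDeg

universe u

variable {N : Type u} [Group N] [Fintype N] [Fintype (commutator N)] (c : Config N)

include c

/-- The smallest `H`-invariant group of linear characters containing a given one. -/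
def gen (L : commutator N →* ℂˣ) : Subgroup (commutator N →* ℂˣ) :=
  Subgroup.closure {M | ∃ h ∈ c.H, M = twHom (commutator N) L h}

theorem self_mem_gen (L : commutator N →* ℂˣ) : L ∈ c.gen L :=
  Subgroup.subset_closure ⟨1, one_mem _, (twHom_one L).symm⟩

theorem twHom_mem_gen (L : commutator N →* ℂˣ) {h : N} (hh : h ∈ c.H) :
    twHom (commutator N) L h ∈ c.gen L :=
  Subgroup.subset_closure ⟨h, hh, rfl⟩

omit c in
theorem twHom_inv_hom (M : commutator N →* ℂˣ) (g : N) :
    twHom (commutator N) M⁻¹ g = (twHom (commutator N) M g)⁻¹ :=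
  rfl

theorem twHom_mem_gen_of_mem {L M : commutator N →* ℂˣ} {h : N} (hh : h ∈ c.H) (hM : M ∈ c.gen L) :
    twHom (commutator N) M h ∈ c.gen L := by
  induction hM using Subgroup.closure_induction with
  | mem x hx =>
    obtain ⟨k, hk, rfl⟩ := hx
    rw [twHom_twHom]
    exact c.twHom_mem_gen L (mul_mem hk hh)
  | one => rw [twHom_one_hom]; exact one_mem _
  | mul x y _ _ hx hy => rw [twHom_mul_hom]; exact mul_mem hx hy
  | inv x _ hx => rw [twHom_inv_hom]; exact inv_mem hx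

theorem stab_le_of_mem_gen {L M : commutator N →* ℂˣ} (hM : M ∈ c.gen L) : stab L ≤ stab M := by
  intro g hg
  obtain ⟨w, hw, h, hh, rfl⟩ := c.exists_mul g
  rw [c.mem_stab_iff hw] at hg ⊢
  rw [mem_stab] at hg ⊢
  induction hM using Subgroup.closure_induction with
  | mem x hx =>
    obtain ⟨k, hk, rfl⟩ := hx
    rw [twHom_twHom, c.hcomm k hk h hh, ← twHom_twHom, hg]
  | one => rw [twHom_one_hom]
  | mul x y _ _ hx hy => rw [twHom_mul_hom, hx, hy]
  | inv x _ hx => rw [twHom_inv_hom, hx]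

theorem stab_eq_of_le {L M : commutator N →* ℂˣ} (hL : L ≠ 1) (hM : M ≠ 1) (h : stab L ≤ stab M) :
    stab L = stab M := by
  obtain ⟨ψ, hψ, hψ1, -⟩ := c.exists_degree_eq hL
  obtain ⟨φ, hφ, hφ1, -⟩ := c.exists_degree_eq hM
  have e := c.hnd φ ψ hφ1 hψ1 (by rw [hφ, hψ]; exact Subgroup.index_dvd_of_le h)
  rw [hφ, hψ] at e
  have h1 := Subgroup.relIndex_mul_index h
  rw [← e] at h1
  exact le_antisymm h (Subgroup.relIndex_eq_one.1
    ((Nat.mul_eq_right Subgroup.index_ne_zero_of_finite).1 h1))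

theorem mem_fixedPart_of_stab {L : commutator N →* ℂˣ} (hL : L ≠ 1) {h : N} (hh : h ∈ c.H)
    (e : twHom (commutator N) L h = L) : h ∈ c.fixedPart :=
  c.stab_inf_le hL (Subgroup.mem_inf.2 ⟨mem_stab.2 e, hh⟩)

theorem div_mem_fixedPart {L : commutator N →* ℂˣ} (hL : L ≠ 1) {a b : N} (ha : a ∈ c.H)
    (hb : b ∈ c.H) (e : twHom (commutator N) L a = twHom (commutator N) L b) :
    a * b⁻¹ ∈ c.fixedPart := by
  refine c.mem_fixedPart_of_stab hL (mul_mem ha (inv_mem hb)) ?_
  rw [← twHom_twHom, e, twHom_twHom, mul_inv_cancel, twHom_one]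

/-- Two nontrivial linear characters generate meeting invariant groups. -/
theorem meet {L M : commutator N →* ℂˣ} (hL : L ≠ 1) (hM : M ≠ 1) :
    ∃ K : commutator N →* ℂˣ, K ≠ 1 ∧ K ∈ c.gen L ∧ K ∈ c.gen M := by
  by_contra hno
  push Not at hno
  have hdis : ∀ K, K ∈ c.gen L → K ∈ c.gen M → K = 1 := fun K h1 h2 =>
    by_contra fun h => hno K h h1 h2
  obtain ⟨h1, hh1, e1⟩ := c.exists_act_eq L
  -- the translation that `σ` induces on the sum restricts to the one on each summand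
  have key : ∀ y ∈ c.H, ∃ k ∈ c.H, k * h1⁻¹ ∈ c.fixedPart ∧
      c.act (twHom (commutator N) M y) = twHom (commutator N) M (y * k) := by
    intro y hy
    obtain ⟨k, hk, ek⟩ := c.exists_act_eq (L * twHom (commutator N) M y)
    obtain ⟨h2, hh2, e2⟩ := c.exists_act_eq (twHom (commutator N) M y)
    rw [c.act_mul, twHom_mul_hom, e1, twHom_twHom] at ek
    have hA : c.act (twHom (commutator N) M y) ∈ c.gen M :=
      e2 ▸ c.twHom_mem_gen_of_mem hh2 (c.twHom_mem_gen M hy)
    have hz1 : (twHom (commutator N) L k)⁻¹ * twHom (commutator N) L h1 =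
        twHom (commutator N) M (y * k) * (c.act (twHom (commutator N) M y))⁻¹ := by
      refine (inv_mul_eq_iff_eq_mul (G := commutator N →* ℂˣ)).2 ?_
      refine Eq.trans ?_ (mul_assoc (G := commutator N →* ℂˣ) _ _ _)
      rw [← ek]
      exact (mul_inv_cancel_right (G := commutator N →* ℂˣ) _ _).symm
    have hz : twHom (commutator N) M (y * k) * (c.act (twHom (commutator N) M y))⁻¹ = 1 := by
      refine hdis _ (hz1 ▸ ?_) ?_
      · exact mul_mem (inv_mem (c.twHom_mem_gen L hk)) (c.twHom_mem_gen L hh1)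
      · exact mul_mem (c.twHom_mem_gen M (mul_mem hy hk)) (inv_mem hA)
    refine ⟨k, hk, c.div_mem_fixedPart hL hk hh1 ?_, (mul_inv_eq_one.1 hz).symm⟩
    rw [hz] at hz1
    exact inv_mul_eq_one.1 hz1
  obtain ⟨y, hy, hmy⟩ := c.hmov
  obtain ⟨y', hy', hy'm⟩ : ∃ y' ∈ c.H, c.σ y' = y := ⟨_, c.σ_symm_mem hy, c.σ.apply_symm_apply y⟩
  obtain ⟨k0, hk0, hk0f, hk0e⟩ := key 1 (one_mem _)
  obtain ⟨k, hk, hkf, hke⟩ := key y hy
  rw [one_mul, twHom_one] at hk0e
  rw [c.act_twHom, hk0e, twHom_twHom, show c.σ.symm y = y' from by rw [← hy'm]; simp] at hke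
  have h2 := c.div_mem_fixedPart hM (mul_mem hk0 hy') (mul_mem hy hk) hke
  -- so `y' / y` is fixed
  have hf1 : y' * y⁻¹ ∈ c.fixedPart := by
    have h3 := mul_mem (mul_mem h2 (inv_mem hk0f)) hkf
    have hc := fun a b ha hb => (c.hcomm a ha b hb : a * b = b * a)
    have : k0 * y' * (y * k)⁻¹ * (k0 * h1⁻¹)⁻¹ * (k * h1⁻¹) = y' * y⁻¹ := by
      let a : c.H := ⟨k0, hk0⟩
      let b : c.H := ⟨y', hy'⟩
      let d : c.H := ⟨y, hy⟩
      let e : c.H := ⟨k, hk⟩
      let f : c.H := ⟨h1, hh1⟩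
      letI : CommGroup c.H := { (inferInstance : Group c.H) with
        mul_comm := fun p q => Subtype.ext (hc p q p.2 q.2) }
      have : a * b * (d * e)⁻¹ * (a * f⁻¹)⁻¹ * (e * f⁻¹) = b * d⁻¹ := by
        simp [mul_inv_rev, mul_assoc, mul_comm, mul_left_comm]
      exact congrArg Subtype.val this
    rwa [this] at h3
  have hfix := c.mem_fixedPart_of_div hL hy' (by
    rw [hy'm]
    have := inv_mem hf1
    rwa [mul_inv_rev, inv_inv] at this)
  have hfe : c.σ y' = y' := (c.mem_fixedPart.1 hfix).2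
  rw [← hy'm, hfe] at hmy
  exact hmy hfe

theorem stab_eq {L M : commutator N →* ℂˣ} (hL : L ≠ 1) (hM : M ≠ 1) : stab L = stab M := by
  obtain ⟨K, hK, h1, h2⟩ := c.meet hL hM
  rw [c.stab_eq_of_le hL hK (c.stab_le_of_mem_gen h1),
    c.stab_eq_of_le hM hK (c.stab_le_of_mem_gen h2)]

theorem orderOf_gen {L : commutator N →* ℂˣ} {r : ℕ} (hL : L ^ r = 1) :
    ∀ M ∈ c.gen L, M ^ r = 1 := by
  intro M hM
  induction hM using Subgroup.closure_induction with
  | mem x hx =>
    obtain ⟨k, hk, rfl⟩ := hx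
    rw [← twHom_pow, hL]
    rfl
  | one => exact one_pow _
  | mul x y _ _ hx hy => exact (mul_pow x y r).trans (by rw [hx, hy]; exact mul_one (M := commutator N →* ℂˣ) 1)
  | inv x _ hx => exact (inv_pow x r).trans (by rw [hx]; exact inv_one (G := commutator N →* ℂˣ))

/-- The group of linear characters of the derived subgroup has prime power order. -/
theorem exists_isPGroup [Finite (commutator N →* ℂˣ)] {L : commutator N →* ℂˣ} (hL : L ≠ 1) :
    ∃ r, r.Prime ∧ IsPGroup r (commutator N →* ℂˣ) := by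
  haveI : Nontrivial (commutator N →* ℂˣ) := ⟨⟨L, 1, hL⟩⟩
  obtain ⟨r, hr, hrd⟩ := Nat.exists_prime_and_dvd (Finite.one_lt_card (α := commutator N →* ℂˣ)).ne'
  haveI := Fact.mk hr
  obtain ⟨A, hA⟩ := exists_prime_orderOf_dvd_card' r hrd
  refine ⟨r, hr, IsPGroup.iff_card.2 ⟨_, Nat.eq_prime_pow_of_unique_prime_dvd Nat.card_pos.ne'
    fun {s} hs hsd => ?_⟩⟩
  by_contra hne
  haveI := Fact.mk hs
  obtain ⟨B, hB⟩ := exists_prime_orderOf_dvd_card' s hsd
  have hA1 : A ≠ 1 := fun e => hr.ne_one (by rw [← hA, e, orderOf_one])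
  have hB1 : B ≠ 1 := fun e => hs.ne_one (by rw [← hB, e, orderOf_one])
  obtain ⟨K, hK, h1, h2⟩ := c.meet hA1 hB1
  exact hK (RelDeg.eq_one_of_pow_coprime (M := commutator N →* ℂˣ) (c.orderOf_gen (hA ▸ pow_orderOf_eq_one A) K h1)
    (c.orderOf_gen (hB ▸ pow_orderOf_eq_one B) K h2) ((Nat.coprime_primes hr hs).2 (Ne.symm hne)))

omit c in
theorem exists_hom_ne_one [Group.IsSolvable (commutator N)] (hne : commutator N ≠ ⊥) :
    ∃ L : commutator N →* ℂˣ, L ≠ 1 := by
  by_contra hno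
  push Not at hno
  haveI := (Subgroup.nontrivial_iff_ne_bot _).2 hne
  refine (Group.IsSolvable.commutator_lt_top_of_nontrivial (G := commutator N)).ne
    (eq_top_iff.2 fun x _ => ?_)
  haveI : Fintype (Abelianization (commutator N)) := Fintype.ofFinite _
  have h1 : Abelianization.of x = 1 := eq_one_of_forall_hom (fun a b => mul_comm a b) fun f =>
    DFunLike.congr_fun (hno (f.comp Abelianization.of)) x
  rwa [← MonoidHom.mem_ker, Abelianization.ker_of] at h1

/-- The group of elements `σ y / y`. -/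
def divHom : c.H →* N :=
  MonoidHom.mk' (fun y => c.σ y * (y : N)⁻¹) fun a b => by
    have hσb := c.hσH b b.2
    rw [Subgroup.coe_mul, map_mul, mul_inv_rev,
      show c.σ (a : N) * c.σ b * ((b : N)⁻¹ * (a : N)⁻¹) =
        c.σ (a : N) * ((c.σ b * (b : N)⁻¹) * (a : N)⁻¹) by group,
      c.hcomm _ (mul_mem hσb (inv_mem b.2)) _ (inv_mem a.2)]
    group

theorem divHom_mem (y : c.H) : c.divHom y ∈ c.H := mul_mem (c.hσH y y.2) (inv_mem y.2)

theorem divHom_moved {L : commutator N →* ℂˣ} (hL : L ≠ 1) {t : N} (ht : t ∈ c.divHom.range)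
    (ht1 : t ≠ 1) : t ∈ c.H ∧ c.σ t ≠ t := by
  obtain ⟨y, rfl⟩ := ht
  refine ⟨c.divHom_mem y, fun e => ht1 ?_⟩
  have := c.mem_fixedPart_of_div hL y.2 ⟨c.divHom_mem y, e⟩
  show c.σ y * (y : N)⁻¹ = 1
  rw [(c.mem_fixedPart.1 this).2, mul_inv_cancel]

theorem divHom_ker : c.divHom.ker = c.fixedPart.subgroupOf c.H := by
  ext y
  rw [MonoidHom.mem_ker, Subgroup.mem_subgroupOf, mem_fixedPart]
  exact ⟨fun h => ⟨y.2, mul_inv_eq_one.1 h⟩, fun h => mul_inv_eq_one.2 h.2⟩

theorem card_divHom_range : Nat.card c.divHom.range = c.fixedPart.relIndex c.H := by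
  rw [← Subgroup.index_ker, c.divHom_ker]
  rfl

theorem isNilpotent {L : commutator N →* ℂˣ} (hL : L ≠ 1) : Group.IsNilpotent (commutator N) := by
  obtain ⟨y, hy, hmy⟩ := c.hmov
  have hne : c.divHom.range ≠ ⊥ := fun e => hmy (mul_inv_eq_one.1
    (Subgroup.mem_bot.1 (e ▸ (⟨⟨y, hy⟩, rfl⟩ : c.σ y * y⁻¹ ∈ c.divHom.range))))
  haveI := (Subgroup.nontrivial_iff_ne_bot _).2 hne
  obtain ⟨p, hp, hpd⟩ := Nat.exists_prime_and_dvd (Finite.one_lt_card (α := c.divHom.range)).ne'
  haveI := Fact.mk hp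
  obtain ⟨t, ht⟩ := exists_prime_orderOf_dvd_card' p hpd
  have htp : (t : N) ^ p = 1 := by
    rw [← SubmonoidClass.coe_pow, ← ht, pow_orderOf_eq_one]; rfl
  obtain ⟨htH, htm⟩ := c.divHom_moved hL t.2 (fun e => hp.ne_one (by
    rw [← ht, orderOf_eq_one_iff]; exact Subtype.ext e))
  refine Cfsg.Lib.Thompson.isNilpotent_of_fpf hp (MulAut.conjNormal (t : N) : MulAut (commutator N))
    (fun w hw => ?_) ?_
  · have e : (t : N) * w * (t : N)⁻¹ = w := by simpa using congrArg Subtype.val hw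
    exact Subtype.ext (c.hfpf t htH htm w w.2 (mul_inv_eq_iff_eq_mul.1 e))
  · funext w
    have e : ∀ k : ℕ, ∀ v : commutator N, (((MulAut.conjNormal (t : N) :
        MulAut (commutator N)) : commutator N → commutator N)^[k]) v =
        MulAut.conjNormal ((t : N) ^ k) v := by
      intro k
      induction k with
      | zero => intro v; simp
      | succ k ih =>
        intro v
        rw [Function.iterate_succ_apply', ih, pow_succ', map_mul]
        rfl
    rw [e, htp, map_one]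
    rfl

end Cfsg.Lib.Char.NoDivide.Config
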